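import Groth.Agent.Sga4h.TameFieldAlg
import Mathlib.FieldTheory.Galois.Profinite
import Mathlib.FieldTheory.Minpoly.IsConjRoot

/-!
# Homomorphisms of the absolute Galois group of a strictly henselian field into groups killed by `r`
-/

set_option autoImplicit false

universe u v

namespace K4.TameHom

open IsLocalRing Groth.Agent.Sga4h.TameExt Groth.Agent.Sga4h.TameFieldAlg

section

variable (R K Ω : Type u) [CommRing R] [IsDomain R] [IsDiscreteValuationRing R]
  [Field K] [Algebra R K] [IsFractionRing R K] [Field Ω] [Algebra K Ω] [IsGalois K Ω]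

/-- Kummer characters are surjective. -/
theorem exists_aut {n : ℕ} (hn : n ≠ 0) {ϖ : R} (hϖ : Irreducible ϖ) (y ζ : Ω)
    (hy : y ^ n = algebraMap K Ω (algebraMap R K ϖ)) (hζ : ζ ^ n = 1) :
    ∃ τ : Ω ≃ₐ[K] Ω, τ y = ζ * y := by
  have hirr := irreducible_X_pow_sub_C K hn hϖ
  have hmin : ∀ z : Ω, z ^ n = algebraMap K Ω (algebraMap R K ϖ) →
      minpoly K z = Polynomial.X ^ n - Polynomial.C (algebraMap R K ϖ) := by
    intro z hz
    symm
    apply minpoly.eq_of_irreducible_of_monic hirr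
    · simp [hz]
    · exact Polynomial.monic_X_pow_sub_C _ hn
  have hc : IsConjRoot K (ζ * y) y := by
    rw [isConjRoot_def, hmin _ hy, hmin _ (by rw [mul_pow, hζ, one_mul, hy])]
  exact hc.exists_algEquiv

end

theorem isUnit_natCast_iff (R : Type u) [CommRing R] [IsLocalRing R] (n : ℕ) :
    IsUnit (n : R) ↔ (n : ResidueField R) ≠ 0 := by
  rw [← isUnit_iff_ne_zero, ← map_natCast (residue R) n, isUnit_map_iff]

/-- A subgroup of index invertible in `R` and order prime to `r`. -/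
theorem exists_subgroup (R : Type u) [CommRing R] [IsLocalRing R] (r : ℕ)
    (hr : IsUnit (r : ResidueField R)) (D : Type*) [Group D] [Finite D] :
    ∃ P : Subgroup D, IsUnit ((P.index : ℕ) : R) ∧ (Nat.card P).Coprime r := by
  obtain ⟨q, hq⟩ := ExpChar.exists (ResidueField R)
  obtain _ | ⟨hprime⟩ := hq
  · refine ⟨⊥, ?_, ?_⟩
    · rw [isUnit_natCast_iff, Subgroup.index_bot]
      exact_mod_cast Nat.card_pos.ne'
    · rw [Subgroup.card_bot]
      exact Nat.coprime_one_left _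
  · have : Fact q.Prime := ⟨hprime⟩
    obtain ⟨P⟩ : Nonempty (Sylow q D) := inferInstance
    refine ⟨P, ?_, ?_⟩
    · rw [isUnit_natCast_iff, Ne, CharP.cast_eq_zero_iff _ q]
      exact P.not_dvd_index
    · obtain ⟨a, ha⟩ := (IsPGroup.iff_card (p := q)).mp P.isPGroup'
      rw [ha]
      refine Nat.Coprime.pow_left _ ((Nat.Prime.coprime_iff_not_dvd hprime).mpr fun h => ?_)
      rw [← CharP.cast_eq_zero_iff (ResidueField R) q] at h
      exact hr.ne_zero h

section

variable (R K Ω : Type u) [CommRing R] [IsDomain R] [IsDiscreteValuationRing R]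
  [Field K] [Algebra R K] [IsFractionRing R K] [Field Ω] [Algebra K Ω] [IsGalois K Ω]
  (hR : EtCoh.IsStrictlyHenselianLocalRing R)

omit [IsGalois K Ω] in
include hR in
/-- The tame layer attached to a subgroup of invertible index. -/
theorem exists_root {ϖ : R} (hϖ : Irreducible ϖ) (L : IntermediateField K Ω)
    [FiniteDimensional K L] [IsGalois K L] (P : Subgroup (L ≃ₐ[K] L))
    (hP : IsUnit ((P.index : ℕ) : R)) :
    ∃ y : L, y ^ P.index = algebraMap K L (algebraMap R K ϖ) ∧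
      ∀ g : L ≃ₐ[K] L, g y = y → g ∈ P := by
  let _ : Algebra R Ω := ((algebraMap K Ω).comp (algebraMap R K)).toAlgebra
  have : IsScalarTower R K Ω := IsScalarTower.of_algebraMap_eq fun _ => rfl
  let E : IntermediateField K L := IntermediateField.fixedField P
  have hn : Module.finrank K E = P.index := by
    have h1 : Module.finrank K E * Module.finrank E L = Module.finrank K L :=
      Module.finrank_mul_finrank K E L
    have h2 : Nat.card (L ≃ₐ[K] L) = Module.finrank K L := IsGalois.card_aut_eq_finrank K L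
    have h3 : Module.finrank E L = Nat.card P := IntermediateField.finrank_fixedField_eq_card _
    have h4 := P.index_mul_card
    rw [h2, ← h1, h3] at h4
    exact (Nat.eq_of_mul_eq_mul_right Nat.card_pos h4).symm
  obtain ⟨y, hy⟩ := exists_pow_eq R K E hR (by rw [hn]; exact hP) hϖ
  rw [hn] at hy
  have hy' : (y : L) ^ P.index = algebraMap R L ϖ := by
    have := congrArg (algebraMap E L) hy
    rw [map_pow] at this
    exact this
  have hindex : P.index ≠ 0 := by
    intro h0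
    rw [h0, Nat.cast_zero] at hP
    exact not_isUnit_zero hP
  have hfr := finrank_adjoin_root R K L hindex hϖ hy'
  have hle : IntermediateField.adjoin K {(y : L)} ≤ E := by
    rw [IntermediateField.adjoin_simple_le_iff]
    exact y.2
  have heq : IntermediateField.adjoin K {(y : L)} = E := by
    apply IntermediateField.eq_of_le_of_finrank_eq hle
    rw [hfr, hn]
  refine ⟨y, hy', fun g hg => ?_⟩
  have h5 : IntermediateField.fixingSubgroup E = P := IntermediateField.fixingSubgroup_fixedField P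
  rw [← h5, ← heq]
  rw [IntermediateField.mem_fixingSubgroup_iff]
  intro x hx
  have h6 : IntermediateField.adjoin K {(y : L)} ≤
      IntermediateField.fixedField (Subgroup.zpowers g) := by
    rw [IntermediateField.adjoin_simple_le_iff, IntermediateField.mem_fixedField_iff]
    intro f hf
    have h7 : Subgroup.zpowers g ≤ MulAction.stabilizer (L ≃ₐ[K] L) (y : L) := by
      rw [Subgroup.zpowers_le]
      exact hg
    exact h7 hf
  exact (IntermediateField.mem_fixedField_iff _ _).mp (h6 hx) g (Subgroup.mem_zpowers g)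

end

/-- Roots of unity which are `r`-th powers. -/
theorem exists_eta {Ω : Type u} [Field Ω] (r n : ℕ) (hn : n ≠ 0) (ω : Ω) (hω : IsPrimitiveRoot ω n)
    (ζ : Ω) (hζ : ζ ^ n = 1) (h : ζ ^ (n / Nat.gcd r n) = 1) : ∃ η : Ω, η ^ n = 1 ∧ η ^ r = ζ := by
  have : NeZero n := ⟨hn⟩
  have hω0 : ω ≠ 0 := hω.ne_zero hn
  obtain ⟨j, -, rfl⟩ := hω.eq_pow_of_pow_eq_one hζ
  have hd : Nat.gcd r n ∣ n := Nat.gcd_dvd_right r n
  have hd0 : Nat.gcd r n ≠ 0 := fun h0 => hn (Nat.eq_zero_of_gcd_eq_zero_right h0)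
  obtain ⟨n', hn'⟩ := hd
  have hn'0 : n' ≠ 0 := by
    rintro rfl
    exact hn (by rw [hn', mul_zero])
  have hdiv : n / Nat.gcd r n = n' :=
    Nat.div_eq_of_eq_mul_right (Nat.pos_of_ne_zero hd0) hn'
  rw [hdiv, ← pow_mul, hω.pow_eq_one_iff_dvd] at h
  have hdj : Nat.gcd r n ∣ j := by
    have h1 : Nat.gcd r n * n' ∣ j * n' := by
      rw [← hn']
      exact h
    exact Nat.dvd_of_mul_dvd_mul_right (Nat.pos_of_ne_zero hn'0) h1
  obtain ⟨j', rfl⟩ := hdj
  refine ⟨ω ^ (Nat.gcdA r n * j' : ℤ), ?_, ?_⟩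
  · rw [← zpow_natCast, ← zpow_mul, mul_comm, zpow_mul, zpow_natCast, hω.pow_eq_one, one_zpow]
  · have hb := Nat.gcd_eq_gcd_ab r n
    rw [← zpow_natCast, ← zpow_mul, ← zpow_natCast ω]
    have h2 : ((Nat.gcd r n * j' : ℕ) : ℤ) =
        Nat.gcdA r n * j' * (r : ℤ) + n * (Nat.gcdB r n * j') := by
      push_cast
      rw [hb]
      ring
    rw [h2, zpow_add₀ hω0, zpow_mul ω (n : ℤ), zpow_natCast, hω.pow_eq_one, one_zpow, mul_one]

section

variable (R K Ω : Type u) [CommRing R] [IsDomain R] [IsDiscreteValuationRing R]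
  [Field K] [Algebra R K] [IsFractionRing R K] [Field Ω] [Algebra K Ω] [IsGalois K Ω]
  (hR : EtCoh.IsStrictlyHenselianLocalRing R)

include hR in
/-- Automorphisms fixing `ρ = ϖ^{1/r}` are products of two `r`-th powers on finite layers. -/
theorem exists_finite_level {r : ℕ} (hr : IsUnit (r : ResidueField R)) {ϖ : R}
    (hϖ : Irreducible ϖ) {ρ : Ω} (hρ : ρ ^ r = algebraMap K Ω (algebraMap R K ϖ))
    (σ : Ω ≃ₐ[K] Ω) (hσ : σ ρ = ρ) (L : IntermediateField K Ω) [FiniteDimensional K L]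
    [IsGalois K L] : ∃ τ π : Ω ≃ₐ[K] Ω, ∀ x ∈ L, (τ ^ r * π ^ r) x = σ x := by
  have hrR : IsUnit (r : R) := (isUnit_natCast_iff R r).mpr hr.ne_zero
  obtain ⟨P, hP, hcop⟩ := exists_subgroup R r hr (L ≃ₐ[K] L)
  obtain ⟨y, hy, hyP⟩ := exists_root R K Ω hR hϖ L P hP
  set n := P.index with hn
  have hn0 : n ≠ 0 := by
    intro h0
    rw [h0, Nat.cast_zero] at hP
    exact not_isUnit_zero hP
  have hϖK : algebraMap R K ϖ ≠ 0 := fun h =>
    hϖ.ne_zero ((IsFractionRing.injective R K) (h.trans (map_zero _).symm))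
  have hϖΩ : algebraMap K Ω (algebraMap R K ϖ) ≠ 0 := by
    intro h
    exact hϖK ((algebraMap K Ω).injective (h.trans (map_zero _).symm))
  have hyΩ : (y : Ω) ^ n = algebraMap K Ω (algebraMap R K ϖ) := by
    have := congrArg (algebraMap L Ω) hy
    rw [map_pow, ← IsScalarTower.algebraMap_apply] at this
    exact this
  have hy0 : (y : Ω) ≠ 0 := by
    intro h
    rw [h, zero_pow hn0] at hyΩ
    exact hϖΩ hyΩ.symm
  have hr0 : r ≠ 0 := by
    rintro rfl
    rw [Nat.cast_zero] at hrR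
    exact not_isUnit_zero hrR
  have hρ0 : ρ ≠ 0 := by
    intro h
    rw [h, zero_pow hr0] at hρ
    exact hϖΩ hρ.symm
  -- the root of unity
  set ζ : Ω := σ y / y with hζ
  have hσy : σ y = ζ * y := by
    rw [hζ, div_mul_cancel₀ _ hy0]
  have hζn : ζ ^ n = 1 := by
    rw [hζ, div_pow, ← map_pow, hyΩ, σ.commutes, div_self hϖΩ]
  set d := Nat.gcd r n with hd
  have hdr : d ∣ r := Nat.gcd_dvd_left r n
  have hdn : d ∣ n := Nat.gcd_dvd_right r n
  have hdR : IsUnit (d : R) := by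
    obtain ⟨r', hr'⟩ := hdr
    rw [hr', Nat.cast_mul] at hrR
    exact isUnit_of_mul_isUnit_left hrR
  have h1 : ((y : Ω) ^ (n / d) / ρ ^ (r / d)) ^ d = 1 := by
    rw [div_pow, ← pow_mul, ← pow_mul, Nat.div_mul_cancel hdn, Nat.div_mul_cancel hdr, hyΩ, hρ,
      div_self hϖΩ]
  obtain ⟨ξ, hξ⟩ := mem_of_pow_eq_one R K hR d hdR _ h1
  have h2 : σ ((y : Ω) ^ (n / d)) = (y : Ω) ^ (n / d) := by
    have h3 : (y : Ω) ^ (n / d) = algebraMap K Ω ξ * ρ ^ (r / d) := by
      rw [hξ, div_mul_cancel₀ _ (pow_ne_zero _ hρ0)]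
    rw [h3, map_mul, map_pow, σ.commutes, hσ]
  have h3 : ζ ^ (n / d) = 1 := by
    rw [hζ, div_pow, ← map_pow, h2, div_self (pow_ne_zero _ hy0)]
  obtain ⟨ω, hω⟩ := exists_primitiveRoot R K hR n hP
  obtain ⟨η, hη, hηr⟩ := exists_eta r n hn0 _ (hω.map_of_injective (algebraMap K Ω).injective)
    ζ hζn h3
  obtain ⟨τ, hτ⟩ := exists_aut R K Ω hn0 hϖ (y : Ω) η hyΩ hη
  obtain ⟨η', hη'⟩ := mem_of_pow_eq_one R K hR n hP η hη
  have hτη : τ η = η := by rw [← hη', τ.commutes]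
  have hτi : ∀ i : ℕ, (τ ^ i) (y : Ω) = η ^ i * y := by
    intro i
    induction i with
    | zero => simp
    | succ i ih =>
      rw [pow_succ', AlgEquiv.mul_apply, ih, map_mul, map_pow, hτη, hτ, pow_succ]
      ring
  -- the wild part
  set g : Ω ≃ₐ[K] Ω := (τ ^ r)⁻¹ * σ with hg
  have hgy : g y = y := by
    rw [hg, AlgEquiv.mul_apply, hσy, ← hηr, ← hτi r]
    exact (τ ^ r).symm_apply_apply _
  have hgL : (AlgEquiv.restrictNormalHom L g) y = y := by
    apply Subtype.ext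
    have := AlgEquiv.restrictNormal_commutes g L y
    exact this.trans hgy
  have hgP := hyP _ hgL
  let h : P := (powCoprime (G := P) hcop).symm ⟨_, hgP⟩
  have hh : h ^ r = ⟨_, hgP⟩ := (powCoprime (G := P) hcop).apply_symm_apply ⟨_, hgP⟩
  have hh' : (h : L ≃ₐ[K] L) ^ r = AlgEquiv.restrictNormalHom L g := congrArg Subtype.val hh
  obtain ⟨π, hπ⟩ := AlgEquiv.restrictNormalHom_surjective (F := K) (K₁ := L) Ω (h : L ≃ₐ[K] L)
  refine ⟨τ, π, fun x hx => ?_⟩
  have h4 : (π ^ r) x = g x := by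
    have h5 : AlgEquiv.restrictNormalHom L (π ^ r) = AlgEquiv.restrictNormalHom L g := by
      rw [map_pow, hπ, hh']
    have h6 := AlgEquiv.restrictNormal_commutes (π ^ r) L ⟨x, hx⟩
    have h7 := AlgEquiv.restrictNormal_commutes g L ⟨x, hx⟩
    have h8 := congrArg (algebraMap L Ω) (congr($h5 ⟨x, hx⟩))
    exact h6.symm.trans (h8.trans h7)
  rw [AlgEquiv.mul_apply, h4, hg, AlgEquiv.mul_apply]
  exact (τ ^ r).apply_symm_apply _

end

section

variable (R K Ω : Type u) [CommRing R] [IsDomain R] [IsDiscreteValuationRing R]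
  [Field K] [Algebra R K] [IsFractionRing R K] [Field Ω] [Algebra K Ω] [IsGalois K Ω]
  (hR : EtCoh.IsStrictlyHenselianLocalRing R)

include hR in
/-- Automorphisms fixing `ρ = ϖ^{1/r}` are products of two `r`-th powers. -/
theorem exists_pow_mul_pow {r : ℕ} (hr : IsUnit (r : ResidueField R)) {ϖ : R}
    (hϖ : Irreducible ϖ) {ρ : Ω} (hρ : ρ ^ r = algebraMap K Ω (algebraMap R K ϖ))
    (σ : Ω ≃ₐ[K] Ω) (hσ : σ ρ = ρ) : ∃ τ π : Ω ≃ₐ[K] Ω, τ ^ r * π ^ r = σ := by
  let Z : Ω → Set ((Ω ≃ₐ[K] Ω) × (Ω ≃ₐ[K] Ω)) := fun x => {p | (p.1 ^ r * p.2 ^ r) x = σ x}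
  have hZ : ∀ x, IsClosed (Z x) := by
    intro x
    have h1 : IsClosed {g : Ω ≃ₐ[K] Ω | g x = σ x} := by
      have h2 : {g : Ω ≃ₐ[K] Ω | g x = σ x} =
          (fun g => σ⁻¹ * g) ⁻¹' ((IntermediateField.adjoin K {x}).fixingSubgroup : Set _) := by
        ext g
        rw [Set.mem_ofPred_eq, Set.mem_preimage, SetLike.mem_coe,
          IntermediateField.mem_fixingSubgroup_iff]
        constructor
        · intro hg y hy
          have h3 : IntermediateField.adjoin K {x} ≤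
              IntermediateField.fixedField (Subgroup.zpowers (σ⁻¹ * g)) := by
            rw [IntermediateField.adjoin_simple_le_iff, IntermediateField.mem_fixedField_iff]
            intro f hf
            have h7 : Subgroup.zpowers (σ⁻¹ * g) ≤ MulAction.stabilizer (Ω ≃ₐ[K] Ω) x := by
              rw [Subgroup.zpowers_le, MulAction.mem_stabilizer_iff]
              change σ⁻¹ (g x) = x
              rw [hg]
              exact σ.symm_apply_apply x
            exact h7 hf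
          exact (IntermediateField.mem_fixedField_iff _ _).mp (h3 hy) _ (Subgroup.mem_zpowers _)
        · intro hg
          have h3 := hg x (IntermediateField.mem_adjoin_simple_self K x)
          have h4 : σ.symm (g x) = x := h3
          rw [← σ.apply_symm_apply (g x), h4]
      rw [h2]
      have : FiniteDimensional K (IntermediateField.adjoin K {x}) :=
        IntermediateField.adjoin.finiteDimensional (Algebra.IsIntegral.isIntegral x)
      exact (IntermediateField.fixingSubgroup_isClosed _).preimage (continuous_const_mul _)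
    have h5 : Continuous fun p : (Ω ≃ₐ[K] Ω) × (Ω ≃ₐ[K] Ω) => p.1 ^ r * p.2 ^ r :=
      (continuous_fst.pow r).mul (continuous_snd.pow r)
    exact h1.preimage h5
  have hfin : ∀ s : Finset Ω, (⋂ x ∈ s, Z x).Nonempty := by
    intro s
    let L : FiniteGaloisIntermediateField K Ω := FiniteGaloisIntermediateField.adjoin K (s : Set Ω)
    obtain ⟨τ, π, h1⟩ := exists_finite_level R K Ω hR hr hϖ hρ σ hσ L.toIntermediateField
    refine ⟨(τ, π), ?_⟩
    rw [Set.mem_iInter₂]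
    intro x hx
    exact h1 x (FiniteGaloisIntermediateField.subset_adjoin K (s : Set Ω) hx)
  obtain ⟨⟨τ, π⟩, h⟩ := CompactSpace.iInter_nonempty hZ hfin
  rw [Set.mem_iInter] at h
  exact ⟨τ, π, AlgEquiv.ext h⟩

include hR in
/-- The main statement. -/
theorem existsUnique {r : ℕ} [NeZero r] (hr : IsUnit (r : ResidueField R)) {ϖ : R}
    (hϖ : Irreducible ϖ) {ρ : Ω} (hρ : ρ ^ r = algebraMap K Ω (algebraMap R K ϖ))
    (M : Type v) [AddCommGroup M] (hM : ∀ x : M, r • x = 0)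
    (φ : (Ω ≃ₐ[K] Ω) → M) (hφ : ∀ σ τ : Ω ≃ₐ[K] Ω, φ (σ * τ) = φ σ + φ τ) :
    ∃! u : ↥(rootsOfUnity r Ω) → M, (∀ ζ ξ : ↥(rootsOfUnity r Ω), u (ζ * ξ) = u ζ + u ξ) ∧
      ∀ (σ : Ω ≃ₐ[K] Ω) (ζ : ↥(rootsOfUnity r Ω)), ((ζ : Ωˣ) : Ω) * ρ = σ ρ → φ σ = u ζ := by
  have hrR : IsUnit (r : R) := (isUnit_natCast_iff R r).mpr hr.ne_zero
  have hr0 : r ≠ 0 := NeZero.ne r
  have hϖK : algebraMap R K ϖ ≠ 0 := fun h =>
    hϖ.ne_zero ((IsFractionRing.injective R K) (h.trans (map_zero _).symm))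
  have hϖΩ : algebraMap K Ω (algebraMap R K ϖ) ≠ 0 := by
    intro h
    exact hϖK ((algebraMap K Ω).injective (h.trans (map_zero _).symm))
  have hρ0 : ρ ≠ 0 := by
    intro h
    rw [h, zero_pow hr0] at hρ
    exact hϖΩ hρ.symm
  let φ' : (Ω ≃ₐ[K] Ω) →* Multiplicative M :=
    MonoidHom.mk' (fun σ => Multiplicative.ofAdd (φ σ)) fun σ τ => by
      rw [hφ]
      rfl
  have hpow : ∀ σ : Ω ≃ₐ[K] Ω, φ (σ ^ r) = 0 := by
    intro σ
    have h1 : φ' (σ ^ r) = φ' σ ^ r := map_pow φ' σ r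
    have h2 : φ (σ ^ r) = r • φ σ := congrArg Multiplicative.toAdd h1
    rw [h2, hM]
  have hker : ∀ σ : Ω ≃ₐ[K] Ω, σ ρ = ρ → φ σ = 0 := by
    intro σ hσ
    obtain ⟨τ, π, rfl⟩ := exists_pow_mul_pow R K Ω hR hr hϖ hρ σ hσ
    rw [hφ, hpow, hpow, add_zero]
  have heq : ∀ σ τ : Ω ≃ₐ[K] Ω, σ ρ = τ ρ → φ σ = φ τ := by
    intro σ τ h
    have h1 : φ (σ * (σ⁻¹ * τ)) = φ σ + φ (σ⁻¹ * τ) := hφ _ _
    rw [mul_inv_cancel_left, hker (σ⁻¹ * τ) (by
      rw [AlgEquiv.mul_apply, ← h]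
      exact σ.symm_apply_apply ρ), add_zero] at h1
    exact h1.symm
  have hζ : ∀ ζ : ↥(rootsOfUnity r Ω), ((ζ : Ωˣ) : Ω) ^ r = 1 := fun ζ =>
    (mem_rootsOfUnity' r (ζ : Ωˣ)).mp ζ.2
  choose s hs using fun ζ : ↥(rootsOfUnity r Ω) =>
    exists_aut R K Ω hr0 hϖ ρ ((ζ : Ωˣ) : Ω) hρ (hζ ζ)
  have hfix : ∀ (σ : Ω ≃ₐ[K] Ω) (ζ : ↥(rootsOfUnity r Ω)), σ ((ζ : Ωˣ) : Ω) = ((ζ : Ωˣ) : Ω) := by
    intro σ ζ
    obtain ⟨z, hz⟩ := mem_of_pow_eq_one R K hR r hrR _ (hζ ζ)
    rw [← hz, σ.commutes]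
  refine ⟨fun ζ => φ (s ζ), ⟨fun ζ ξ => ?_, fun σ ζ h => ?_⟩, fun u hu => ?_⟩
  · change φ (s (ζ * ξ)) = φ (s ζ) + φ (s ξ)
    rw [← hφ]
    apply heq
    rw [hs, AlgEquiv.mul_apply, hs, map_mul, hfix, hs]
    rw [Subgroup.coe_mul, Units.val_mul]
    ring
  · apply heq
    rw [← h, hs]
  · funext ζ
    exact (hu.2 (s ζ) ζ (hs ζ).symm).symm

end

end K4.TameHom
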