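import Groth.Agent.VanCyc.K4.Subst
import Groth.Agent.Vancyc.H690.Morse
import Groth.Agent.Vancyc.H678.P2Quad

/-!
# The formal Morse lemma over an arbitrary ring
-/

set_option autoImplicit false

universe u

namespace K4.MorseAny

open MvPowerSeries K4.Ser K4.Subst VanCyc Matrix

variable {A : Type u} [CommRing A] {n : ℕ}

theorem polarMatrix_transpose (q : Fin n → Fin n → A) : (polarMatrix q)ᵀ = polarMatrix q := by
  ext i j
  rw [Matrix.transpose_apply, polarMatrix, polarMatrix]
  rcases lt_trichotomy i j with h | h | h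
  · rw [if_neg h.ne', if_neg (not_lt.2 h.le), if_neg h.ne, if_pos h]
  · subst h; rfl
  · rw [if_neg h.ne, if_neg (not_lt.2 h.le), if_neg h.ne', if_pos h]

/-- Non-degeneracy makes the linear part of `Q(x + h) - Q(x)` solvable. -/
theorem exists_solve (q : Fin n → Fin n → A) (hq : QuadNondeg q) :
    ∃ σ : MvPowerSeries (Fin n) A → Fin n → MvPowerSeries (Fin n) A,
      (∀ u, constantCoeff u = 0 → (polarMatrix fun i j => algebraMap A (MvPowerSeries (Fin n) A)
        (q i j)) *ᵥ X ⬝ᵥ σ u = u) ∧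
      (∀ k u, u ∈ Fil (Fin n) A (k + 1) → ∀ i, σ u i ∈ Fil (Fin n) A k) ∧
      ∀ u v i, σ (u - v) i = σ u i - σ v i := by
  classical
  set P := polarMatrix fun i j => algebraMap A (MvPowerSeries (Fin n) A) (q i j) with hP
  have hdet : IsUnit P.det :=
    Groth.Agent.Vancyc.H690.Morse.quadNondeg_map (R := MvPowerSeries (Fin n) A) q hq
  refine ⟨fun u => P⁻¹ *ᵥ fun l => D l u, fun u hu => ?_, fun k u hu i => ?_, fun u v i => ?_⟩
  · have h1 : P *ᵥ (X : Fin n → MvPowerSeries (Fin n) A) =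
        (X : Fin n → MvPowerSeries (Fin n) A) ᵥ* P := by
      rw [← Matrix.mulVec_transpose, hP, polarMatrix_transpose]
    rw [h1, ← Matrix.dotProduct_mulVec, Matrix.mulVec_mulVec, Matrix.mul_nonsing_inv _ hdet,
      Matrix.one_mulVec]
    exact sum_X_mul_D hu
  · change ∑ l, P⁻¹ i l * D l u ∈ _
    exact Ideal.sum_mem _ fun l _ => Ideal.mul_mem_left _ _ (D_mem_Fil hu)
  · have h1 : (fun l => D l (u - v)) = (fun l => D l u) - fun l => D l v := by
      funext l
      exact D_sub l u v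
    change (P⁻¹ *ᵥ fun l => D l (u - v)) i = _
    rw [h1, Matrix.mulVec_sub]
    rfl

theorem quadEval_mem_Fil (b : Fin n → Fin n → MvPowerSeries (Fin n) A)
    {y : Fin n → MvPowerSeries (Fin n) A} {N : ℕ} (hy : ∀ i, y i ∈ Fil (Fin n) A N) :
    quadEval b y ∈ Fil (Fin n) A (N + N) := by
  refine Submodule.sum_mem _ fun i _ => Submodule.sum_mem _ fun j _ => ?_
  split_ifs
  · rw [mul_assoc]
    exact Ideal.mul_mem_left _ _ (mul_mem_Fil (hy i) (hy j))
  · exact zero_mem _

theorem quadEval_sub_mem_Fil (b : Fin n → Fin n → MvPowerSeries (Fin n) A)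
    {y z : Fin n → MvPowerSeries (Fin n) A} {N M : ℕ}
    (hy : ∀ i, y i ∈ Fil (Fin n) A N) (hz : ∀ i, z i ∈ Fil (Fin n) A N)
    (hyz : ∀ i, y i - z i ∈ Fil (Fin n) A M) :
    quadEval b y - quadEval b z ∈ Fil (Fin n) A (M + N) := by
  rw [quadEval, quadEval, ← Finset.sum_sub_distrib]
  refine Submodule.sum_mem _ fun i _ => ?_
  rw [← Finset.sum_sub_distrib]
  refine Submodule.sum_mem _ fun j _ => ?_
  split_ifs
  · have : b i j * y i * y j - b i j * z i * z j =
      b i j * ((y i - z i) * y j + (y j - z j) * z i) := by ring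
    rw [this]
    exact Ideal.mul_mem_left _ _ (Ideal.add_mem _ (mul_mem_Fil (hyz i) (hy j))
      (mul_mem_Fil (hyz j) (hz i)))
  · rw [sub_zero]; exact zero_mem _

/-- The value of a quadratic polynomial at `x + h`. -/
theorem subst_quad (q : Fin n → Fin n → A) (a : A) (h : Fin n → MvPowerSeries (Fin n) A)
    (hh : ∀ i, h i ∈ Fil (Fin n) A 1) :
    subst (fun i => X i + h i)
      ((quadPoly q + MvPolynomial.C a : MvPolynomial (Fin n) A) : MvPowerSeries (Fin n) A) =
    ((quadPoly q + MvPolynomial.C a : MvPolynomial (Fin n) A) : MvPowerSeries (Fin n) A) +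
      ((polarMatrix fun i j => algebraMap A (MvPowerSeries (Fin n) A) (q i j)) *ᵥ X ⬝ᵥ h +
        quadEval (fun i j => algebraMap A (MvPowerSeries (Fin n) A) (q i j)) h) := by
  have hX : ∀ i, X i + h i ∈ Fil (Fin n) A 1 := fun i => Ideal.add_mem _ (X_mem_Fil i) (hh i)
  have h0 : ((quadPoly q + MvPolynomial.C a : MvPolynomial (Fin n) A) : MvPowerSeries (Fin n) A) =
      MvPolynomial.aeval (X : Fin n → MvPowerSeries (Fin n) A)
        (quadPoly q + MvPolynomial.C a) := by
    rw [← subst_coe, subst_self]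
    rfl
  rw [subst_coe]
  conv_rhs => rw [h0]
  rw [map_add, map_add, Groth.Agent.Vancyc.H690.Morse.aeval_quadPoly,
    Groth.Agent.Vancyc.H690.Morse.aeval_quadPoly, MvPolynomial.aeval_C, MvPolynomial.aeval_C,
    Groth.Agent.Vancyc.H678.P2Quad.polar_dotProduct]
  have h1 : (fun i => X i + h i) = (X : Fin n → MvPowerSeries (Fin n) A) + h := rfl
  rw [h1]
  ring

/-- **The formal Morse lemma.** -/
theorem exists_morse (m : ℕ) (hm : 2 ≤ m) (q : Fin n → Fin n → A) (hq : QuadNondeg q) (a : A)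
    (F : MvPowerSeries (Fin n) A)
    (hF : F - ((quadPoly q + MvPolynomial.C a : MvPolynomial (Fin n) A) :
      MvPowerSeries (Fin n) A) ∈ Fil (Fin n) A (m + 1)) :
    ∃ h : Fin n → MvPowerSeries (Fin n) A, (∀ i, h i ∈ Fil (Fin n) A m) ∧
      subst (fun i => X i + h i) F =
        ((quadPoly q + MvPolynomial.C a : MvPolynomial (Fin n) A) : MvPowerSeries (Fin n) A) := by
  obtain ⟨σ, hσ1, hσ2, hσ3⟩ := exists_solve q hq
  set Qa := ((quadPoly q + MvPolynomial.C a : MvPolynomial (Fin n) A) : MvPowerSeries (Fin n) A)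
    with hQa
  set b : Fin n → Fin n → MvPowerSeries (Fin n) A := fun i j => algebraMap A _ (q i j) with hb
  set R := F - Qa with hR
  have hX : ∀ k : Fin n → MvPowerSeries (Fin n) A, (∀ i, k i ∈ Fil (Fin n) A m) →
      ∀ i, X i + k i ∈ Fil (Fin n) A 1 := fun k hk i =>
    Ideal.add_mem _ (X_mem_Fil i) (Fil_mono (by omega) (hk i))
  let u : (Fin n → MvPowerSeries (Fin n) A) → MvPowerSeries (Fin n) A := fun h =>
    -(quadEval b h + subst (fun i => X i + h i) R)
  have hu : ∀ h, (∀ i, h i ∈ Fil (Fin n) A m) → u h ∈ Fil (Fin n) A (m + 1) := fun h hh =>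
    neg_mem (Ideal.add_mem _ (Fil_mono (by omega) (quadEval_mem_Fil b hh))
      (subst_mem_Fil (hX h hh) hF))
  obtain ⟨h, hh, hfix⟩ := exists_fixed m (by omega)
    (fun (h : Fin n → MvPowerSeries (Fin n) A) => σ (u h))
    (fun y hy i => hσ2 m _ (hu y hy) i)
    (fun s hs y z hy hz hyz i => by
      rw [← hσ3]
      refine hσ2 _ _ ?_ i
      have h1 := quadEval_sub_mem_Fil b hy hz hyz
      have h2 := subst_sub_mem (hX y hy) (hX z hz) s (fun i => by simpa using hyz i) m hF
      have h3 : u y - u z = -((quadEval b y - quadEval b z) +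
          (subst (fun i => X i + y i) R - subst (fun i => X i + z i) R)) := by
        simp only [u]; ring
      rw [h3]
      exact neg_mem (Ideal.add_mem _ (Fil_mono (by omega) h1) (Fil_mono (by omega) h2)))
  refine ⟨h, hh, ?_⟩
  have h1 : F = Qa + R := by rw [hR]; ring
  have hh1 : ∀ i, h i ∈ Fil (Fin n) A 1 := fun i => Fil_mono (by omega) (hh i)
  rw [h1, subst_add (hasSubst (hX h hh)), hQa, subst_quad q a h hh1]
  have h2 : σ (u h) = h := hfix
  have h3 := hσ1 (u h) (mem_Fil_one.1 (Fil_mono (by omega) (hu h hh)))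
  rw [h2] at h3
  rw [h3]
  simp only [u]
  ring

/-- The resulting isomorphism of quotients. -/
theorem nonempty_algEquiv (h : Fin n → MvPowerSeries (Fin n) A) (hh : ∀ i, h i ∈ Fil (Fin n) A 2)
    (F G : MvPowerSeries (Fin n) A) (hFG : subst (fun i => X i + h i) F = G) :
    Nonempty ((MvPowerSeries (Fin n) A ⧸ Ideal.span {F}) ≃ₐ[A]
      (MvPowerSeries (Fin n) A ⧸ Ideal.span {G})) := by
  have hX : ∀ i, X i + h i ∈ Fil (Fin n) A 1 := fun i =>
    Ideal.add_mem _ (X_mem_Fil i) (Fil_mono (by norm_num) (hh i))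
  let θ : MvPowerSeries (Fin n) A ≃ₐ[A] MvPowerSeries (Fin n) A :=
    AlgEquiv.ofBijective (substAlgHom (hasSubst hX)) (by
      rw [coe_substAlgHom]
      exact bijective_subst h hh)
  have hθ : θ F = G := by
    change substAlgHom (hasSubst hX) F = G
    rw [coe_substAlgHom]
    exact hFG
  refine ⟨Ideal.quotientEquivAlg _ _ θ ?_⟩
  rw [Ideal.map_span, Set.image_singleton]
  exact congrArg (fun z => Ideal.span {z}) hθ.symm

end K4.MorseAny
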