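import Groth.Agent.VanCyc.K4.Transl
import Groth.Agent.Vancyc.H689.PSPow
import Mathlib.LinearAlgebra.Matrix.NonsingularInverse

/-!
# The formal Morse lemma over a complete local ring, with linear terms in the maximal ideal
-/

set_option autoImplicit false

universe u

namespace K4.MorseComplete

open MvPowerSeries K4.Ser K4.Subst K4.Transl K4.MorseAny VanCyc Matrix IsLocalRing
open Groth.Agent.UnramA.PowerSeriesComplete (M mem_M_pow_iff)

variable {A : Type u} [CommRing A] {n : ℕ}

theorem mulVec_mem (I : Ideal A) (P : Matrix (Fin n) (Fin n) A) (v : Fin n → A)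
    (hv : ∀ j, v j ∈ I) (i : Fin n) : (P *ᵥ v) i ∈ I := by
  change ∑ j, P i j * v j ∈ I
  exact Ideal.sum_mem _ fun j _ => Ideal.mul_mem_left _ _ (hv j)

theorem quadEval_C (q : Fin n → Fin n → A) (t : Fin n → A) :
    quadEval (fun i j => algebraMap A (MvPowerSeries (Fin n) A) (q i j)) (fun i => C (t i)) =
      C (quadEval q t) := by
  rw [quadEval, quadEval, map_sum]
  refine Finset.sum_congr rfl fun i _ => ?_
  rw [map_sum]
  refine Finset.sum_congr rfl fun j _ => ?_
  split_ifs
  · rw [map_mul, map_mul]; rfl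
  · rw [map_zero]

theorem polar_dot_C (q : Fin n → Fin n → A) (t : Fin n → A) :
    (polarMatrix fun i j => algebraMap A (MvPowerSeries (Fin n) A) (q i j)) *ᵥ X ⬝ᵥ
      (fun i => C (t i)) = ∑ j, C ((polarMatrix q *ᵥ t) j) * X j := by
  rw [Groth.Agent.Vancyc.H690.Morse.polarMatrix_map]
  have h1 : ((algebraMap A (MvPowerSeries (Fin n) A)).mapMatrix (polarMatrix q)) *ᵥ X ⬝ᵥ
      (fun i => C (t i)) = ∑ i, (∑ j, C (polarMatrix q i j) * X j) * C (t i) := rfl
  rw [h1]
  simp only [Finset.sum_mul]
  rw [Finset.sum_comm]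
  refine Finset.sum_congr rfl fun j _ => ?_
  have h2 : (polarMatrix q *ᵥ t) j = ∑ i, polarMatrix q j i * t i := rfl
  rw [h2, map_sum, Finset.sum_mul]
  refine Finset.sum_congr rfl fun i _ => ?_
  have h3 : polarMatrix q j i = polarMatrix q i j := by
    conv_rhs => rw [← polarMatrix_transpose, Matrix.transpose_apply]
  rw [h3, map_mul]
  ring

/-- The value of a quadratic polynomial at `x + h`. -/
theorem aeval_quad (q : Fin n → Fin n → A) (a : A) (h : Fin n → MvPowerSeries (Fin n) A) :
    MvPolynomial.aeval (fun i => X i + h i) (quadPoly q + MvPolynomial.C a) =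
    ((quadPoly q + MvPolynomial.C a : MvPolynomial (Fin n) A) : MvPowerSeries (Fin n) A) +
      ((polarMatrix fun i j => algebraMap A (MvPowerSeries (Fin n) A) (q i j)) *ᵥ X ⬝ᵥ h +
        quadEval (fun i j => algebraMap A (MvPowerSeries (Fin n) A) (q i j)) h) := by
  have h0 : ((quadPoly q + MvPolynomial.C a : MvPolynomial (Fin n) A) : MvPowerSeries (Fin n) A) =
      MvPolynomial.aeval (X : Fin n → MvPowerSeries (Fin n) A)
        (quadPoly q + MvPolynomial.C a) := by
    rw [← subst_coe, subst_self]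
    rfl
  conv_rhs => rw [h0]
  rw [map_add, map_add, Groth.Agent.Vancyc.H690.Morse.aeval_quadPoly,
    Groth.Agent.Vancyc.H690.Morse.aeval_quadPoly, MvPolynomial.aeval_C, MvPolynomial.aeval_C,
    Groth.Agent.Vancyc.H678.P2Quad.polar_dotProduct]
  have h1 : (fun i => X i + h i) = (X : Fin n → MvPowerSeries (Fin n) A) + h := rfl
  rw [h1]
  ring

theorem quadPoly_mem_Fil (q : Fin n → Fin n → A) :
    ((quadPoly q : MvPolynomial (Fin n) A) : MvPowerSeries (Fin n) A) ∈ Fil (Fin n) A 2 := by
  have h0 : ((quadPoly q : MvPolynomial (Fin n) A) : MvPowerSeries (Fin n) A) =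
      MvPolynomial.aeval (X : Fin n → MvPowerSeries (Fin n) A) (quadPoly q) := by
    rw [← subst_coe, subst_self]
    rfl
  rw [h0, Groth.Agent.Vancyc.H690.Morse.aeval_quadPoly]
  exact quadEval_mem_Fil _ X_mem_Fil

section Complete

variable [IsLocalRing A] [IsAdicComplete (maximalIdeal A) A]

/-- The main construction. -/
theorem exists_translate (q : Fin n → Fin n → A) (hq : QuadNondeg q)
    (a : A) (ℓ : Fin n → A) (hℓ : ∀ i, ℓ i ∈ maximalIdeal A)
    (R : MvPowerSeries (Fin n) A) (hR : R ∈ Fil (Fin n) A 3) :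
    ∃ (t : Fin n → A) (ht : ∀ i, t i ∈ maximalIdeal A) (w₀ : A), w₀ ∈ maximalIdeal A ∧
      (∀ i, coeff (Finsupp.single i 1) (tau (maximalIdeal A) t ht
        (((quadPoly q + MvPolynomial.C a : MvPolynomial (Fin n) A) : MvPowerSeries (Fin n) A) +
          ∑ i, C (ℓ i) * X i + R)) = 0) ∧
      ∃ w : Fin n → A, tau (maximalIdeal A) t ht
        (((quadPoly q + MvPolynomial.C a : MvPolynomial (Fin n) A) : MvPowerSeries (Fin n) A) +
          ∑ i, C (ℓ i) * X i + R) =
        ((quadPoly q + MvPolynomial.C a : MvPolynomial (Fin n) A) : MvPowerSeries (Fin n) A) +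
          C w₀ + ∑ j, C (w j) * X j + tau (maximalIdeal A) t ht R := by
  classical
  set P := polarMatrix q with hP
  have hPd : IsUnit P.det := hq
  have hm3 : ∀ (t : Fin n → A) (ht : ∀ i, t i ∈ maximalIdeal A) (i : Fin n),
      coeff (Finsupp.single i 1) (tau (maximalIdeal A) t ht R) ∈ maximalIdeal A := by
    intro t ht i
    have h1 := tau_mem_of_Fil (maximalIdeal A) t ht hR
    rw [mem_M_pow_iff] at h1
    have h2 := h1 (Finsupp.single i 1)
    rw [Finsupp.degree_single] at h2
    exact Ideal.pow_le_self (by norm_num) h2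
  have key : ∀ (t : Fin n → A) (ht : ∀ i, t i ∈ maximalIdeal A),
      tau (maximalIdeal A) t ht
        (((quadPoly q + MvPolynomial.C a : MvPolynomial (Fin n) A) : MvPowerSeries (Fin n) A) +
          ∑ i, C (ℓ i) * X i + R) =
        ((quadPoly q + MvPolynomial.C a : MvPolynomial (Fin n) A) : MvPowerSeries (Fin n) A) +
          C (quadEval q t + ∑ i, ℓ i * t i) + ∑ j, C ((P *ᵥ t) j + ℓ j) * X j +
            tau (maximalIdeal A) t ht R := by
    intro t ht
    rw [map_add, map_add, tau_coe, aeval_quad q a (fun i => C (t i)), polar_dot_C, quadEval_C,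
      map_sum]
    have h1 : ∑ i, tau (maximalIdeal A) t ht (C (ℓ i) * X i) =
        ∑ i, C (ℓ i) * X i + C (∑ i, ℓ i * t i) := by
      rw [map_sum, ← Finset.sum_add_distrib]
      refine Finset.sum_congr rfl fun i _ => ?_
      rw [map_mul, tau_C, tau_X, map_mul]
      ring
    rw [h1]
    simp only [map_add, add_mul, Finset.sum_add_distrib]
    ring
  -- the linear coefficients
  have hlin : ∀ (t : Fin n → A) (ht : ∀ i, t i ∈ maximalIdeal A) (i : Fin n),
      coeff (Finsupp.single i 1) (tau (maximalIdeal A) t ht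
        (((quadPoly q + MvPolynomial.C a : MvPolynomial (Fin n) A) : MvPowerSeries (Fin n) A) +
          ∑ i, C (ℓ i) * X i + R)) =
        (P *ᵥ t) i + (ℓ i + coeff (Finsupp.single i 1) (tau (maximalIdeal A) t ht R)) := by
    intro t ht i
    have hC : ∀ b : A, coeff (Finsupp.single i 1) (C b : MvPowerSeries (Fin n) A) = 0 := by
      intro b
      rw [coeff_C, if_neg]
      exact fun h => by simpa using DFunLike.congr_fun h i
    rw [key t ht, map_add, map_add, map_add, MvPolynomial.coe_add, MvPolynomial.coe_C, map_add,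
      hC, hC, mem_Fil.1 (quadPoly_mem_Fil q) _ (by simp), map_sum, Finset.sum_eq_single i]
    · rw [coeff_mul_X_single, if_pos rfl, constantCoeff_C]
      ring
    · intro b _ hb
      rw [coeff_mul_X_single, if_neg hb]
    · intro h; exact absurd (Finset.mem_univ _) h
  -- the fixed point
  let ρ : (Fin n → A) → Fin n → A := fun t i =>
    if ht : ∀ i, t i ∈ maximalIdeal A then
      coeff (Finsupp.single i 1) (tau (maximalIdeal A) t ht R) else 0
  obtain ⟨t, ht, hfix⟩ := exists_fixed_adic (maximalIdeal A)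
    (fun t => -(P⁻¹ *ᵥ (ℓ + ρ t)))
    (fun t ht i => by
      refine neg_mem (mulVec_mem _ _ _ (fun j => ?_) i)
      rw [Pi.add_apply]
      refine Ideal.add_mem _ (hℓ j) ?_
      simp only [ρ, dif_pos ht]
      exact hm3 t ht j)
    (fun s hs t t' ht ht' htt i => by
      have h1 : -(P⁻¹ *ᵥ (ℓ + ρ t)) - -(P⁻¹ *ᵥ (ℓ + ρ t')) = -(P⁻¹ *ᵥ (ρ t - ρ t')) := by
        rw [Matrix.mulVec_add, Matrix.mulVec_add, Matrix.mulVec_sub]
        abel
      have h2 : (-(P⁻¹ *ᵥ (ℓ + ρ t))) i - (-(P⁻¹ *ᵥ (ℓ + ρ t'))) i = (-(P⁻¹ *ᵥ (ρ t - ρ t'))) i := by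
        rw [← h1]; rfl
      rw [h2]
      refine neg_mem (mulVec_mem _ _ _ (fun j => ?_) i)
      rw [Pi.sub_apply]
      simp only [ρ, dif_pos ht, dif_pos ht']
      rw [← map_sub]
      have h3 := tau_sub_mem (maximalIdeal A) t ht t' ht' s htt 2 hR
      rw [mem_M_pow_iff] at h3
      have h4 := h3 (Finsupp.single j 1)
      rw [Finsupp.degree_single] at h4
      exact Ideal.pow_le_pow_right (by omega) h4)
  refine ⟨t, ht, quadEval q t + ∑ i, ℓ i * t i, ?_, fun i => ?_, fun j => (P *ᵥ t) j + ℓ j, key t ht⟩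
  · refine Ideal.add_mem _ (Ideal.sum_mem _ fun i _ => Ideal.sum_mem _ fun j _ => ?_)
      (Ideal.sum_mem _ fun i _ => Ideal.mul_mem_left _ _ (ht i))
    split_ifs
    · exact Ideal.mul_mem_left _ _ (ht j)
    · exact zero_mem _
  · rw [hlin t ht i]
    have h1 : P *ᵥ t = -(ℓ + ρ t) := by
      conv_lhs => rw [← hfix]
      rw [Matrix.mulVec_neg, Matrix.mulVec_mulVec, Matrix.mul_nonsing_inv _ hPd, Matrix.one_mulVec]
    have h2 := congr_fun h1 i
    rw [Pi.neg_apply, Pi.add_apply] at h2
    simp only [ρ, dif_pos ht] at h2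
    rw [h2]
    ring

omit [IsLocalRing A] [IsAdicComplete (maximalIdeal A) A] in
theorem coeff_quadPoly_of_ne (q : Fin n → Fin n → A) (d : Fin n →₀ ℕ) (hd : d.degree ≠ 2) :
    MvPolynomial.coeff d (quadPoly q) = 0 := by
  unfold VanCyc.quadPoly
  rw [MvPolynomial.coeff_sum]
  refine Finset.sum_eq_zero fun i _ => ?_
  rw [MvPolynomial.coeff_sum]
  refine Finset.sum_eq_zero fun j _ => ?_
  split_ifs with h
  · rw [mul_assoc, MvPolynomial.coeff_C_mul, MvPolynomial.X, MvPolynomial.X,
      MvPolynomial.monomial_mul, MvPolynomial.coeff_monomial, if_neg, mul_zero]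
    rintro rfl
    apply hd
    rw [map_add, Finsupp.degree_single, Finsupp.degree_single]
  · rw [MvPolynomial.coeff_zero]

omit [IsAdicComplete (maximalIdeal A) A] in
/-- Non-degeneracy only depends on the residue form. -/
theorem quadNondeg_of_sub_mem (q q' : Fin n → Fin n → A) (hq : QuadNondeg q)
    (h : ∀ i j, i ≤ j → q' i j - q i j ∈ maximalIdeal A) : QuadNondeg q' := by
  have h1 : ∀ i j, i ≤ j → residue A (q' i j) = residue A (q i j) := fun i j hij => by
    rw [← sub_eq_zero, ← map_sub, residue_eq_zero_iff]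
    exact h i j hij
  have h2 : (residue A).mapMatrix (polarMatrix q') = (residue A).mapMatrix (polarMatrix q) := by
    ext i j
    simp only [RingHom.mapMatrix_apply, Matrix.map_apply, polarMatrix]
    split_ifs with h3 h4
    · rw [map_mul, map_mul, h1 i i le_rfl]
    · exact h1 i j h4.le
    · exact h1 j i (not_lt.1 h4)
  have h3 : residue A (polarMatrix q').det = residue A (polarMatrix q).det := by
    rw [RingHom.map_det, RingHom.map_det, h2]
  rw [QuadNondeg, ← isUnit_map_iff (residue A), h3]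
  exact hq.map _

/-- **The formal Morse lemma over a complete local ring.** -/
theorem exists_normal_form (q : Fin n → Fin n → A) (hq : QuadNondeg q)
    (a : A) (ha : a ∈ maximalIdeal A) (ℓ : Fin n → A) (hℓ : ∀ i, ℓ i ∈ maximalIdeal A)
    (R : MvPowerSeries (Fin n) A) (hR : R ∈ Fil (Fin n) A 3) (F : MvPowerSeries (Fin n) A)
    (hF : F = ((quadPoly q + MvPolynomial.C a : MvPolynomial (Fin n) A) :
      MvPowerSeries (Fin n) A) + ∑ i, C (ℓ i) * X i + R) :
    ∃ (a' : A) (q' : Fin n → Fin n → A), a' ∈ maximalIdeal A ∧ QuadNondeg q' ∧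
      Nonempty ((MvPowerSeries (Fin n) A ⧸ Ideal.span {F}) ≃ₐ[A]
        (MvPowerSeries (Fin n) A ⧸ Ideal.span {((quadPoly q' + MvPolynomial.C a' :
          MvPolynomial (Fin n) A) : MvPowerSeries (Fin n) A)})) := by
  classical
  obtain ⟨t, ht, w₀, hw₀, hlin, w, hw⟩ := exists_translate q hq a ℓ hℓ R hR
  rw [← hF] at hlin hw
  set G := tau (maximalIdeal A) t ht F with hG
  have hτR := tau_mem_of_Fil (maximalIdeal A) t ht hR
  rw [mem_M_pow_iff] at hτR
  let a' : A := constantCoeff G
  let q' : Fin n → Fin n → A := fun i j => coeff (Finsupp.single i 1 + Finsupp.single j 1) G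
  have ha' : a' ∈ maximalIdeal A := by
    change constantCoeff G ∈ _
    rw [hw, map_add, map_add, map_add, MvPolynomial.coe_add, MvPolynomial.coe_C, map_add,
      constantCoeff_C, constantCoeff_C, mem_Fil_one.1 (Fil_mono (by norm_num) (quadPoly_mem_Fil q)),
      map_sum]
    refine Ideal.add_mem _ (Ideal.add_mem _ (Ideal.add_mem _ (Ideal.add_mem _ (zero_mem _) ha) hw₀)
      (Ideal.sum_mem _ fun i _ => ?_)) ?_
    · rw [map_mul, constantCoeff_X, mul_zero]; exact zero_mem _
    · have h1 := hτR 0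
      rw [coeff_zero_eq_constantCoeff_apply] at h1
      exact Ideal.pow_le_self (by simp) h1
  have hq'q : ∀ i j, i ≤ j → q' i j - q i j ∈ maximalIdeal A := by
    intro i j hij
    have hd : Finsupp.degree (Finsupp.single i 1 + Finsupp.single j 1 : Fin n →₀ ℕ) = 2 := by
      rw [map_add, Finsupp.degree_single, Finsupp.degree_single]
    have hC : ∀ b : A, coeff (Finsupp.single i 1 + Finsupp.single j 1)
        (C b : MvPowerSeries (Fin n) A) = 0 := by
      intro b
      rw [coeff_C, if_neg]
      intro h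
      rw [h] at hd
      simp at hd
    have h1 : q' i j = q i j + coeff (Finsupp.single i 1 + Finsupp.single j 1)
        (tau (maximalIdeal A) t ht R) := by
      change coeff _ G = _
      rw [hw, map_add, map_add, map_add, MvPolynomial.coe_add, MvPolynomial.coe_C, map_add, hC, hC,
        MvPolynomial.coeff_coe, Groth.Agent.Vancyc.H690.Morse.coeff_quadPoly q i j hij, map_sum,
        Finset.sum_eq_zero]
      · ring
      · intro l _
        rw [coeff_C_mul, coeff_X, if_neg, mul_zero]
        intro h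
        rw [h] at hd
        simp at hd
    rw [h1, add_sub_cancel_left]
    have h2 := hτR (Finsupp.single i 1 + Finsupp.single j 1)
    rw [hd] at h2
    exact Ideal.pow_le_self (by norm_num) h2
  refine ⟨a', q', ha', quadNondeg_of_sub_mem q q' hq hq'q, ?_⟩
  have hFil : G - ((quadPoly q' + MvPolynomial.C a' : MvPolynomial (Fin n) A) :
      MvPowerSeries (Fin n) A) ∈ Fil (Fin n) A (2 + 1) := by
    rw [mem_Fil]
    intro d hd
    rw [map_sub, MvPolynomial.coeff_coe, MvPolynomial.coeff_add, sub_eq_zero]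
    obtain h | h | h : d.degree = 0 ∨ d.degree = 1 ∨ d.degree = 2 := by omega
    · rw [coeff_quadPoly_of_ne _ _ (by omega)]
      rw [Finsupp.degree_eq_zero_iff] at h
      subst h
      rw [MvPolynomial.coeff_C, if_pos rfl, zero_add]
      rfl
    · rw [coeff_quadPoly_of_ne _ _ (by omega)]
      obtain ⟨i, e, he, rfl⟩ := Groth.Agent.Vancyc.H689.PSPow.exists_single_of_degree_succ h
      rw [Finsupp.degree_eq_zero_iff] at he
      subst he
      rw [add_zero, hlin, MvPolynomial.coeff_C, if_neg, zero_add]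
      exact fun h => by simpa using DFunLike.congr_fun h i
    · obtain ⟨i, j, hij, rfl⟩ := Groth.Agent.Vancyc.H689.PSPow.exists_pair_of_degree_two h
      rw [Groth.Agent.Vancyc.H690.Morse.coeff_quadPoly q' i j hij, MvPolynomial.coeff_C, if_neg,
        add_zero]
      intro h'
      rw [← h'] at h
      simp at h
  obtain ⟨h, hh, hsub⟩ := exists_morse 2 le_rfl q'
    (quadNondeg_of_sub_mem q q' hq hq'q) a' G hFil
  obtain ⟨e2⟩ := nonempty_algEquiv h hh G _ hsub
  refine ⟨(Ideal.quotientEquivAlg (Ideal.span {F}) (Ideal.span {G})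
    (tauEquiv (maximalIdeal A) t ht) ?_).trans e2⟩
  rw [Ideal.map_span, Set.image_singleton]
  rfl

end Complete

end K4.MorseComplete
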