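import Groth.Agent.VanCyc.K4.HypPt

/-!
# The completion of `k[x]/(f)` at a rational point
-/

set_option autoImplicit false
universe u

namespace K4.HypCpl

open MvPolynomial IsLocalRing VanCyc Groth.Agent.Lefpen.H702.AffAlg K4.HypPt

local notation "tr" => Groth.Agent.Vancyc.H578.Trans.trans

theorem localRingHom_surjective {S T : Type*} [CommRing S] [CommRing T] (f : S →+* T)
    (hf : Function.Surjective f) (r : Ideal T) [r.IsPrime] (r' : Ideal S) [r'.IsPrime]
    (hr : r' = r.comap f) : Function.Surjective (Localization.localRingHom r' r f hr) := by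
  intro y
  obtain ⟨b, s, rfl⟩ := IsLocalization.exists_mk'_eq r.primeCompl y
  obtain ⟨a, rfl⟩ := hf b
  obtain ⟨s, hs⟩ := s
  obtain ⟨t, rfl⟩ := hf s
  have ht : t ∈ r'.primeCompl := fun h => hs (hr.le h)
  exact ⟨IsLocalization.mk' _ a ⟨t, ht⟩, by rw [Localization.localRingHom_mk']⟩

theorem ker_localRingHom {S T : Type*} [CommRing S] [CommRing T] (f : S →+* T)
    (hf : Function.Surjective f) (r : Ideal T) [r.IsPrime] (r' : Ideal S) [r'.IsPrime]
    (hr : r' = r.comap f) : RingHom.ker (Localization.localRingHom r' r f hr) =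
      (RingHom.ker f).map (algebraMap S (Localization.AtPrime r')) := by
  refine IsLocalization.ker_map _ _ ?_
  ext y
  constructor
  · rintro ⟨x, hx, rfl⟩
    exact fun h => hx (hr.ge h)
  · intro hy
    obtain ⟨x, rfl⟩ := hf y
    exact ⟨x, fun h => hy (hr.le h), rfl⟩

/-- The completion of `O` is `k[[x]]/(F)`. -/
def HasCpl (k O : Type u) [Field k] [CommRing O] [IsLocalRing O] [Algebra k O] {n : ℕ}
    (F : MvPowerSeries (Fin n) k) : Prop :=
  Nonempty (AdicCompletion (maximalIdeal O) O ≃ₐ[k] (MvPowerSeries (Fin n) k ⧸ Ideal.span {F}))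

theorem hasCpl_of_data {k A B : Type u} [Field k] [CommRing A] [IsRegularLocalRing A] [Algebra k A]
    [CommRing B] [IsLocalRing B] [Algebra k B] {n : ℕ}
    (hres : ∀ z : A, ∃ c : k, z - algebraMap k A c ∈ maximalIdeal A) (t : Fin n → A)
    (ht : Ideal.span (Set.range t) = maximalIdeal A) (hn : ringKrullDim A = (n : ℕ))
    (π : A →+* B) (hπ : Function.Surjective π) (hπK : ∀ c, π (algebraMap k A c) = algebraMap k B c)
    (p : MvPolynomial (Fin n) k)
    (hk : RingHom.ker π = Ideal.span {MvPolynomial.eval₂Hom (algebraMap k A) t p}) :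
    HasCpl k B (p : MvPowerSeries (Fin n) k) := by
  obtain ⟨e, heC, heX, hep⟩ :=
    Groth.Agent.Lefpen.H705.Completion.exists_completion_equiv (algebraMap k A) hres n t ht hn
  obtain ⟨e', he'⟩ :=
    Groth.Agent.Lefpen.H705.Completion.exists_quotient_completion_equiv π hπ _ hk e
  have h1 := hep p
  unfold HasCpl
  rw [← h1]
  refine ⟨AlgEquiv.ofRingEquiv (f := e') fun c => ?_⟩
  rw [IsScalarTower.algebraMap_apply k B, ← hπK, he', heC]
  rfl

variable {k : Type u} [Field k] {n : ℕ}

/-- The completion of `k[x]/(f)` at a rational point. -/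
theorem hasCpl (f : MvPolynomial (Fin n) k)
    (P : Ideal (MvPolynomial (Fin n) k ⧸ Ideal.span {f})) [P.IsMaximal] (a : Fin n → k)
    (hPa : P.comap (Ideal.Quotient.mk (Ideal.span {f})) = ptIdeal a) :
    HasCpl k (Localization.AtPrime P)
      ((tr a f : MvPolynomial (Fin n) k) : MvPowerSeries (Fin n) k) := by
  let A := Localization.AtPrime (ptIdeal a)
  have hregM : IsRegularRing (MvPolynomial (Fin n) k) := inferInstance
  have hreg : IsRegularLocalRing A := inferInstance
  have hmI : (ptIdeal a).map (algebraMap (MvPolynomial (Fin n) k) A) = maximalIdeal A :=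
    Localization.AtPrime.map_eq_maximalIdeal
  let t : Fin n → A := fun i => algebraMap (MvPolynomial (Fin n) k) A (X i - C (a i))
  have ht : Ideal.span (Set.range t) = maximalIdeal A := by
    rw [← hmI]
    have h1 : (ptIdeal a).map (algebraMap (MvPolynomial (Fin n) k) A) =
        Ideal.span ((algebraMap (MvPolynomial (Fin n) k) A) '' (Set.range fun l => X l - C (a l))) :=
      Ideal.map_span _ _
    rw [h1, ← Set.range_comp]
    rfl
  have hres : ∀ z : A, ∃ c : k, z - algebraMap k A c ∈ maximalIdeal A := by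
    intro z
    obtain ⟨w, hw⟩ := (IsLocalization.AtPrime.equivQuotMaximalIdeal (ptIdeal a) A).surjective
      (Ideal.Quotient.mk _ z)
    obtain ⟨q, rfl⟩ := Ideal.Quotient.mk_surjective w
    refine ⟨eval a q, ?_⟩
    have h1 : Ideal.Quotient.mk (ptIdeal a) q = Ideal.Quotient.mk (ptIdeal a) (C (eval a q)) := by
      rw [Ideal.Quotient.eq]
      exact sub_C_mem a q
    rw [h1, IsLocalization.AtPrime.equivQuotMaximalIdeal_apply_mk] at hw
    exact Ideal.Quotient.eq.mp hw.symm
  have hdim : ringKrullDim A = (n : ℕ) := by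
    rw [IsLocalization.AtPrime.ringKrullDim_eq_height (ptIdeal a) A,
      Groth.Agent.Ega4B.DimFT.height_eq_of_isMaximal_mvPolynomial_fin k n (ptIdeal a)]
    rfl
  let π : A →+* Localization.AtPrime P :=
    Localization.localRingHom (ptIdeal a) P (Ideal.Quotient.mk (Ideal.span {f})) hPa.symm
  have hπ : Function.Surjective π := localRingHom_surjective _ Ideal.Quotient.mk_surjective _ _ _
  have hk : RingHom.ker π = Ideal.span {algebraMap (MvPolynomial (Fin n) k) A f} := by
    have h1 := ker_localRingHom (Ideal.Quotient.mk (Ideal.span {f})) Ideal.Quotient.mk_surjective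
      P (ptIdeal a) hPa.symm
    rw [Ideal.mk_ker, Ideal.map_span, Set.image_singleton] at h1
    exact h1
  have hev : MvPolynomial.eval₂Hom (algebraMap k A) t (tr a f) =
      algebraMap (MvPolynomial (Fin n) k) A f := by
    have h4 : (aeval t : MvPolynomial (Fin n) k →ₐ[k] A).comp (tr a) =
        IsScalarTower.toAlgHom k (MvPolynomial (Fin n) k) A := by
      ext i
      rw [AlgHom.comp_apply, Groth.Agent.Vancyc.H578.Trans.trans_X, map_add, aeval_X, algHom_C,
        IsScalarTower.coe_toAlgHom']
      change algebraMap (MvPolynomial (Fin n) k) A (X i - C (a i)) + _ = _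
      rw [map_sub, IsScalarTower.algebraMap_apply k (MvPolynomial (Fin n) k) A]
      change _ - algebraMap (MvPolynomial (Fin n) k) A (C (a i)) +
        algebraMap (MvPolynomial (Fin n) k) A (C (a i)) = _
      rw [sub_add_cancel]
    exact congr($h4 f)
  refine hasCpl_of_data hres t ht hdim π hπ (fun c => ?_) (tr a f) ?_
  · change π (algebraMap k A c) = _
    rw [IsScalarTower.algebraMap_apply k (MvPolynomial (Fin n) k) A]
    change Localization.localRingHom _ _ _ _ _ = _
    rw [Localization.localRingHom_to_map]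
    rfl
  · rw [hev, hk]

end K4.HypCpl
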