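import Groth.Agent.VanCyc.K4.Weier
import Groth.Agent.Vancyc.H696.Deg
import Groth.Agent.Vancyc.H678.P2Quad

/-!
# Normal form of an ordinary quadratic equation in `A{x_0, …, x_{2m}}`, residue characteristic two
-/

set_option autoImplicit false
universe u v

namespace K4.DegMorse

open IsLocalRing VanCyc Matrix Groth.Agent.Vancyc.H690.HensFree Groth.Agent.Vancyc.H690.InvFun
  Groth.Agent.Vancyc.H690.Trunc Groth.Agent.Vancyc.H690.HensPres Groth.Agent.Vancyc.H690.Morse
  Groth.Agent.Vancyc.H690.Deriv Groth.Agent.Vancyc.H690.QuadIsom K4.Weier K4.HensTrans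

/-- Deleting a variable. -/
theorem quadEval_sub_mem {R : Type u} [CommRing R] {N : ℕ} (a : Fin (N + 1) → Fin (N + 1) → R)
    (x : Fin (N + 1) → R) (i₀ : Fin (N + 1)) :
    quadEval a x - quadEval (fun i j => a (i₀.succAbove i) (i₀.succAbove j))
      (fun i => x (i₀.succAbove i)) ∈ Ideal.span {x i₀} := by
  have hx : x i₀ ∈ Ideal.span {x i₀} := Ideal.mem_span_singleton_self _
  rw [quadEval, quadEval, Fin.sum_univ_succAbove _ i₀]
  rw [Finset.sum_congr rfl fun i _ => Fin.sum_univ_succAbove (fun j =>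
    if i₀.succAbove i ≤ j then a (i₀.succAbove i) j * x (i₀.succAbove i) * x j else 0) i₀,
    Finset.sum_add_distrib]
  simp only [Fin.succAbove_le_succAbove_iff]
  rw [← add_assoc, add_sub_cancel_right]
  refine Ideal.add_mem _ (Ideal.sum_mem _ fun j _ => ?_) (Ideal.sum_mem _ fun j _ => ?_)
  · split_ifs
    · exact Ideal.mul_mem_right _ _ (Ideal.mul_mem_left _ _ hx)
    · exact Ideal.zero_mem _
  · split_ifs
    · exact Ideal.mul_mem_left _ _ hx
    · exact Ideal.zero_mem _

theorem polarMatrix_succAbove {R : Type u} [CommRing R] {N : ℕ}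
    (a : Fin (N + 1) → Fin (N + 1) → R) (i₀ : Fin (N + 1)) :
    polarMatrix (fun i j => a (i₀.succAbove i) (i₀.succAbove j)) =
      Matrix.of fun i j => polarMatrix a (i₀.succAbove i) (i₀.succAbove j) := by
  ext i j
  rw [Matrix.of_apply, polarMatrix, polarMatrix]
  simp only [Fin.succAbove_lt_succAbove_iff, Fin.succAbove_right_inj]

theorem polarMatrix_ringHom {R S : Type u} [CommRing R] [CommRing S] (f : R →+* S) {N : ℕ}
    (a : Fin N → Fin N → R) :
    polarMatrix (fun i j => f (a i j)) = f.mapMatrix (polarMatrix a) := by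
  ext i j
  rw [RingHom.mapMatrix_apply, Matrix.map_apply, polarMatrix, polarMatrix]
  split_ifs
  · rw [map_mul, map_ofNat]
  · rfl
  · rfl

theorem quadEval_ringHom {R S : Type u} [CommRing R] [CommRing S] (f : R →+* S) {N : ℕ}
    (a : Fin N → Fin N → R) (v : Fin N → R) :
    f (quadEval a v) = quadEval (fun i j => f (a i j)) (fun i => f (v i)) := by
  rw [quadEval, quadEval, map_sum]
  refine Finset.sum_congr rfl fun i _ => ?_
  rw [map_sum]
  refine Finset.sum_congr rfl fun j _ => ?_
  split_ifs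
  · rw [map_mul, map_mul]
  · rw [map_zero]

/-- The index to delete. -/
theorem exists_index {A K : Type u} [CommRing A] [IsLocalRing A] [Field K] [IsAlgClosed K]
    (f : A →+* K) (hf : ∀ c, f c ≠ 0 → IsUnit c)
    (h2 : (2 : K) = 0) (m : ℕ) (a : Fin (2 * m + 1) → Fin (2 * m + 1) → A)
    (ha : QuadOrd fun i j => f (a i j)) :
    ∃ i₀ : Fin (2 * m + 1),
      QuadNondeg fun i j => a (i₀.succAbove i) (i₀.succAbove j) := by
  obtain ⟨i₀, hi₀⟩ := Groth.Agent.Vancyc.H696.Deg.exists_index h2 m ha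
  refine ⟨i₀, hf _ ?_⟩
  rw [RingHom.map_det, ← polarMatrix_ringHom]
  have h3 := polarMatrix_succAbove (fun i j => f (a i j)) i₀
  rw [h3]
  exact hi₀.ne_zero

/-- Derivations of a quadratic expression vanish on the common zeros of the variables. -/
theorem derivation_quadEval_mem {A R : Type u} [CommRing A] [CommRing R] [Algebra A R] {N : ℕ}
    (a : Fin N → Fin N → A) (z : Fin N → R) (D : Derivation A R R) :
    D (quadEval (fun i j => algebraMap A R (a i j)) z) ∈ Ideal.span (Set.range z) := by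
  have hz : ∀ i, z i ∈ Ideal.span (Set.range z) := fun i => Ideal.subset_span ⟨i, rfl⟩
  rw [quadEval, map_sum]
  refine Ideal.sum_mem _ fun i _ => ?_
  rw [map_sum]
  refine Ideal.sum_mem _ fun j _ => ?_
  split_ifs
  · rw [Derivation.leibniz, Derivation.leibniz, Derivation.map_algebraMap, smul_zero, add_zero,
      smul_eq_mul, smul_eq_mul, smul_eq_mul]
    refine Ideal.add_mem _ (Ideal.mul_mem_right _ _ (Ideal.mul_mem_left _ _ (hz i)))
      (Ideal.mul_mem_right _ _ (hz j))
  · rw [map_zero]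
    exact Ideal.zero_mem _

section Gamma

variable {A A₁ R : Type u} [CommRing A] [IsLocalRing A] [CommRing A₁] [IsLocalRing A₁]
  [CommRing R] [IsLocalRing R] [Algebra A A₁] [Algebra A R] [Algebra A₁ R] [IsScalarTower A A₁ R]
  {t : A₁} {N : ℕ} {x : Fin (N + 1) → R} {z : Fin N → R}

/-- The equation of the curve of critical points. -/
theorem exists_gamma (h₁ : IsHensFree A A₁ (fun _ : Unit => t)) (h : IsHensFree A R x)
    (i₀ : Fin (N + 1)) (ht : algebraMap A₁ R t = x i₀) (hz : IsHensFree A₁ R z)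
    (a : Fin (N + 1) → Fin (N + 1) → A) (a₁ : Fin N → Fin N → A₁) (b₁ : A₁) (F : R)
    (hF : F - quadEval (fun i j => algebraMap A R (a i j)) x ∈
      (maximalIdeal A).map (algebraMap A R) ⊔ maximalIdeal R ^ 3)
    (hFz : F = quadEval (fun i j => algebraMap A₁ R (a₁ i j)) z - algebraMap A₁ R b₁) :
    ∃ v : Fin (N + 1) → A, 1 - v i₀ ∈ maximalIdeal A ∧
      (∀ k, k ≠ i₀ → (polarMatrix a *ᵥ v) k ∈ maximalIdeal A) ∧
      -b₁ - algebraMap A A₁ (quadEval a v) * t ^ 2 ∈
        (maximalIdeal A).map (algebraMap A A₁) ⊔ maximalIdeal A₁ ^ 3 := by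
  classical
  have e1 := h₁.henselian
  have e2 := h₁.isLocalHom
  have e3 := h.henselian
  have e4 := h.isLocalHom
  have e5 := hz.isLocalHom
  have hidA : IsLocalHom (algebraMap A₁ A₁) := ⟨fun a ha => ha⟩
  set I := (maximalIdeal A).map (algebraMap A A₁) with hI
  have hIm : I ≤ maximalIdeal A₁ :=
    ((local_hom_TFAE (algebraMap A A₁)).out 0 2 rfl rfl).mp inferInstance
  have htm : t ∈ maximalIdeal A₁ := h₁.mem_maximalIdeal ()
  let σ : R →ₐ[A₁] A₁ := hz.lift (fun _ => 0) fun _ => Ideal.zero_mem _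
  have hσ : ∀ i, σ (z i) = 0 := fun i => hz.lift_apply _ _ _
  have hσm : (maximalIdeal R).map (σ : R →+* A₁) ≤ maximalIdeal A₁ :=
    hz.map_maximalIdeal_le σ fun i => by rw [hσ]; exact Ideal.zero_mem _
  have hσm' : ∀ r ∈ maximalIdeal R, σ r ∈ maximalIdeal A₁ := fun r hr =>
    hσm (Ideal.mem_map_of_mem _ hr)
  have hσA : ∀ c : A, σ (algebraMap A R c) = algebraMap A A₁ c := fun c => by
    rw [IsScalarTower.algebraMap_apply A A₁ R, σ.commutes]
    rfl
  have hσr : ∀ (r : ℕ) (y : R), y ∈ (maximalIdeal A).map (algebraMap A R) ⊔ maximalIdeal R ^ r →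
      σ y ∈ I ⊔ maximalIdeal A₁ ^ r := by
    intro r y hy
    have h2 := Ideal.mem_map_of_mem (σ : R →+* A₁) hy
    rw [Ideal.map_sup, Ideal.map_map, Ideal.map_pow] at h2
    have h3 : (σ : R →+* A₁).comp (algebraMap A R) = algebraMap A A₁ := RingHom.ext hσA
    rw [h3] at h2
    exact (sup_le_sup_left (Ideal.pow_right_mono hσm r) _ : _ ≤ I ⊔ maximalIdeal A₁ ^ r) h2
  let c : Fin (N + 1) → A₁ := fun i => σ (x i)
  have hcm : ∀ i, c i ∈ maximalIdeal A₁ := fun i => hσm' _ (h.mem_maximalIdeal i)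
  have hc0 : c i₀ = t := by
    change σ (x i₀) = t
    rw [← ht, σ.commutes]
    rfl
  -- first order expansion of the curve
  have hm : maximalIdeal A₁ = I ⊔ Ideal.span {t} := by
    have := h₁.maximalIdeal_eq
    rwa [Set.range_unique] at this
  have hv : ∀ y ∈ maximalIdeal A₁, ∃ v : A, y - algebraMap A A₁ v * t ∈
      I ⊔ maximalIdeal A₁ ^ 2 := by
    intro y hy
    rw [hm] at hy
    obtain ⟨i, hi, z, hz, hiz⟩ := Submodule.mem_sup.mp hy
    obtain ⟨w, hw⟩ := Ideal.mem_span_singleton'.mp hz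
    obtain ⟨v, hv⟩ := exists_const h₁ w
    refine ⟨v, ?_⟩
    have h2 : y - algebraMap A A₁ v * t = i + (w - algebraMap A A₁ v) * t := by
      rw [← hiz, ← hw]
      ring
    rw [h2]
    exact Submodule.add_mem_sup hi (by rw [pow_two]; exact Ideal.mul_mem_mul hv htm)
  choose v hv' using fun i => hv (c i) (hcm i)
  refine ⟨v, ?_, ?_, ?_⟩
  · have h2 := hv' i₀
    rw [hc0] at h2
    refine (mem_of_lin h₁ 0 (1 - v i₀) ?_).2
    convert h2 using 1
    rw [map_zero, map_sub, map_one]
    ring
  · intro k hk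
    obtain ⟨k', rfl⟩ := Fin.exists_succAbove_eq hk
    have hx' := extend h₁ h i₀ ht
    obtain ⟨D, hD⟩ := exists_derivation hx' (fun i => if i = k' then 1 else 0)
    let D' : Derivation A R R := D.restrictScalars A
    have hD' : ∀ r, D' r = D r := fun r => rfl
    have hDx : ∀ i, D' (x i) = if i = i₀.succAbove k' then 1 else 0 := by
      intro i
      rw [hD']
      rcases eq_or_ne i i₀ with rfl | hi
      · rw [← ht, Derivation.map_algebraMap, if_neg (Fin.succAbove_ne _ _).symm]
      · obtain ⟨j, rfl⟩ := Fin.exists_succAbove_eq hi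
        rw [hD]
        simp only [Fin.succAbove_right_inj]
    have h2 : σ (D' F) = 0 := by
      rw [hD', hFz, map_sub, Derivation.map_algebraMap, sub_zero]
      have h3 : Ideal.span (Set.range z) ≤ RingHom.ker σ := by
        rw [Ideal.span_le]
        rintro _ ⟨i, rfl⟩
        exact hσ i
      exact h3 (derivation_quadEval_mem a₁ z D)
    have h3 : D' (F - quadEval (fun i j => algebraMap A R (a i j)) x) ∈
        (maximalIdeal A).map (algebraMap A R) ⊔ maximalIdeal R ^ 2 := by
      obtain ⟨r, hr, s, hs, hrs⟩ := Submodule.mem_sup.mp hF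
      rw [← hrs, map_add]
      exact Submodule.add_mem_sup (derivation_map_mem D' _ r hr)
        (derivation_pow_mem D' _ 2 s hs)
    rw [map_sub, derivation_quadEval a D' _ hDx] at h3
    have h4 := hσr 2 _ h3
    rw [map_sub, h2, zero_sub] at h4
    have h5 : σ ((polarMatrix (fun i j => algebraMap A R (a i j)) *ᵥ x) (i₀.succAbove k')) =
        ∑ j, algebraMap A A₁ (polarMatrix a (i₀.succAbove k') j) * c j := by
      rw [polarMatrix_ringHom, mulVec, dotProduct, map_sum]
      refine Finset.sum_congr rfl fun j _ => ?_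
      rw [map_mul, RingHom.mapMatrix_apply, Matrix.map_apply, hσA]
    rw [h5] at h4
    refine (mem_of_lin h₁ 0 _ ?_).2
    have h6 : algebraMap A A₁ 0 + algebraMap A A₁ ((polarMatrix a *ᵥ v) (i₀.succAbove k')) * t =
        -(-∑ j, algebraMap A A₁ (polarMatrix a (i₀.succAbove k') j) * c j) -
          ∑ j, algebraMap A A₁ (polarMatrix a (i₀.succAbove k') j) *
            (c j - algebraMap A A₁ (v j) * t) := by
      rw [mulVec, dotProduct, map_sum, Finset.sum_mul, map_zero, zero_add, neg_neg,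
        ← Finset.sum_sub_distrib]
      refine Finset.sum_congr rfl fun j _ => ?_
      rw [map_mul]
      ring
    rw [h6]
    exact Ideal.sub_mem _ (neg_mem h4) (Ideal.sum_mem _ fun j _ => Ideal.mul_mem_left _ _ (hv' j))
  · have h2 : σ F = -b₁ := by
      rw [hFz, map_sub, σ.commutes]
      have h3 : quadEval (fun i j => algebraMap A₁ R (a₁ i j)) z ∈ RingHom.ker σ := by
        have h4 : Ideal.span (Set.range z) ≤ RingHom.ker σ := by
          rw [Ideal.span_le]
          rintro _ ⟨i, rfl⟩
          exact hσ i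
        refine h4 ?_
        rw [quadEval]
        refine Ideal.sum_mem _ fun i _ => Ideal.sum_mem _ fun j _ => ?_
        split_ifs
        · exact Ideal.mul_mem_left _ _ (Ideal.subset_span ⟨j, rfl⟩)
        · exact Ideal.zero_mem _
      rw [RingHom.mem_ker.mp h3, zero_sub]
      rfl
    have h3 := hσr 3 _ hF
    rw [map_sub, h2] at h3
    have h4 : σ (quadEval (fun i j => algebraMap A R (a i j)) x) =
        quadEval (fun i j => algebraMap A A₁ (a i j)) c := by
      have h5 := quadEval_ringHom (σ : R →+* A₁) (fun i j => algebraMap A R (a i j)) x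
      refine h5.trans ?_
      have h6 : (fun i j => (σ : R →+* A₁) (algebraMap A R (a i j))) =
          fun i j => algebraMap A A₁ (a i j) := by
        funext i j
        exact hσA _
      rw [h6]
      rfl
    rw [h4] at h3
    have h5 : quadEval (fun i j => algebraMap A A₁ (a i j)) c -
        algebraMap A A₁ (quadEval a v) * t ^ 2 ∈ I ⊔ maximalIdeal A₁ ^ 3 := by
      have h6 : algebraMap A A₁ (quadEval a v) * t ^ 2 =
          ∑ i, ∑ j, if i ≤ j then algebraMap A A₁ (a i j) * (algebraMap A A₁ (v i) * t) *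
            (algebraMap A A₁ (v j) * t) else 0 := by
        rw [quadEval_ringHom, quadEval, Finset.sum_mul]
        refine Finset.sum_congr rfl fun i _ => ?_
        rw [Finset.sum_mul]
        refine Finset.sum_congr rfl fun j _ => ?_
        split_ifs
        · ring
        · rw [zero_mul]
      rw [h6, quadEval, ← Finset.sum_sub_distrib]
      refine Ideal.sum_mem _ fun i _ => ?_
      rw [← Finset.sum_sub_distrib]
      refine Ideal.sum_mem _ fun j _ => ?_
      split_ifs
      · have h7 : algebraMap A A₁ (a i j) * c i * c j - algebraMap A A₁ (a i j) *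
            (algebraMap A A₁ (v i) * t) * (algebraMap A A₁ (v j) * t) =
            (algebraMap A A₁ (a i j) * (algebraMap A A₁ (v i) * t)) *
              (c j - algebraMap A A₁ (v j) * t) +
            (algebraMap A A₁ (a i j) * c j) * (c i - algebraMap A A₁ (v i) * t) := by ring
        have h8 : ∀ y ∈ maximalIdeal A₁, ∀ y' ∈ I ⊔ maximalIdeal A₁ ^ 2,
            y * y' ∈ I ⊔ maximalIdeal A₁ ^ 3 := by
          intro y hy y' hy'
          obtain ⟨r, hr, s, hs, hrs⟩ := Submodule.mem_sup.mp hy'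
          rw [← hrs, mul_add]
          exact Submodule.add_mem_sup (I.mul_mem_left _ hr) (by
            rw [pow_succ' _ 2]
            exact Ideal.mul_mem_mul hy hs)
        rw [h7]
        refine Ideal.add_mem _ (h8 _ ?_ _ (hv' j)) (h8 _ ?_ _ (hv' i))
        · exact Ideal.mul_mem_left _ _ (Ideal.mul_mem_left _ _ htm)
        · exact Ideal.mul_mem_left _ _ (hcm j)
      · rw [sub_zero]
        exact Ideal.zero_mem _
    have h6 := Ideal.add_mem _ h3 h5
    convert h6 using 1
    ring

end Gamma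

/-- The value of the form on the radical is a unit. -/
theorem isUnit_gamma {A K : Type u} [CommRing A] [IsLocalRing A] [Field K] (f : A →+* K)
    (hf : ∀ c, f c = 0 ↔ c ∈ maximalIdeal A) {N : ℕ} (a : Fin (N + 1) → Fin (N + 1) → A)
    (ha : QuadOrd fun i j => f (a i j)) (i₀ : Fin (N + 1)) (v : Fin (N + 1) → A)
    (hv : 1 - v i₀ ∈ maximalIdeal A)
    (hpol : ∀ k, k ≠ i₀ → (polarMatrix a *ᵥ v) k ∈ maximalIdeal A) : IsUnit (quadEval a v) := by
  by_contra hn
  have hn' : quadEval a v ∈ maximalIdeal A := hn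
  have hvu : IsUnit (v i₀) := by
    by_contra h1
    have h2 := Ideal.add_mem _ hv (show v i₀ ∈ maximalIdeal A from h1)
    rw [sub_add_cancel] at h2
    exact h2 isUnit_one
  have h1 : (polarMatrix a *ᵥ v) ⬝ᵥ v ∈ maximalIdeal A := by
    rw [Groth.Agent.Vancyc.H678.P2Quad.polar_dotProduct]
    have h2 : quadEval a (v + v) = 4 * quadEval a v := by
      rw [quadEval, quadEval, Finset.mul_sum]
      refine Finset.sum_congr rfl fun i _ => ?_
      rw [Finset.mul_sum]
      refine Finset.sum_congr rfl fun j _ => ?_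
      split_ifs
      · rw [Pi.add_apply, Pi.add_apply]
        ring
      · rw [mul_zero]
    rw [h2]
    exact Ideal.sub_mem _ (Ideal.sub_mem _ (Ideal.mul_mem_left _ _ hn') hn') hn'
  have h2 : (polarMatrix a *ᵥ v) i₀ ∈ maximalIdeal A := by
    rw [dotProduct, Fin.sum_univ_succAbove _ i₀] at h1
    have h3 := Ideal.sub_mem _ h1 (Ideal.sum_mem _ (fun j (_ : j ∈ Finset.univ) =>
      Ideal.mul_mem_right (v (i₀.succAbove j)) _ (hpol _ (Fin.succAbove_ne i₀ j))))
    rw [add_sub_cancel_right] at h3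
    exact (Ideal.mul_unit_mem_iff_mem _ hvu).mp h3
  have h3 : (fun i => f (v i)) = 0 := by
    refine ha _ ?_ ?_
    · rw [← quadEval_ringHom, hf]
      exact hn'
    · funext k
      have h4 : (polarMatrix (fun i j => f (a i j)) *ᵥ fun i => f (v i)) k =
          f ((polarMatrix a *ᵥ v) k) := by
        rw [polarMatrix_ringHom, mulVec, mulVec, dotProduct, dotProduct, map_sum]
        refine Finset.sum_congr rfl fun j _ => ?_
        rw [map_mul, RingHom.mapMatrix_apply, Matrix.map_apply]
      rw [h4, Pi.zero_apply, hf]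
      rcases eq_or_ne k i₀ with rfl | hk
      · exact h2
      · exact hpol k hk
  have h4 := congr_fun h3 i₀
  rw [Pi.zero_apply, hf] at h4
  exact h4 hvu

/-- **The normal form.** -/
theorem exists_normal {A R K : Type u} [CommRing A] [HenselianLocalRing A] [CommRing R]
    [IsLocalRing R] [Algebra A R] [Field K] [IsAlgClosed K] (f : A →+* K)
    (hf : ∀ c, f c = 0 ↔ c ∈ maximalIdeal A) (h2 : (2 : K) = 0) {m : ℕ}
    {x : Fin (2 * m + 1) → R} (h : IsHensFree A R x) (a : Fin (2 * m + 1) → Fin (2 * m + 1) → A)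
    (ha : QuadOrd fun i j => f (a i j)) (F : R)
    (hF : F - quadEval (fun i j => algebraMap A R (a i j)) x ∈
      (maximalIdeal A).map (algebraMap A R) ⊔ maximalIdeal R ^ 3) :
    ∃ (z : Fin (2 * m + 1) → R) (a' : Fin (2 * m) → Fin (2 * m) → A) (b c : A) (w : R),
      IsHensFree A R z ∧ QuadNondeg a' ∧ b ∈ maximalIdeal A ∧ c ∈ maximalIdeal A ∧ IsUnit w ∧
      w * F = z 0 ^ 2 + algebraMap A R b * z 0 + algebraMap A R c +
        quadEval (fun i j => algebraMap A R (a' i j)) (fun i => z i.succ) := by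
  have e3 := h.henselian
  have e4 := h.isLocalHom
  obtain ⟨i₀, hi₀⟩ := exists_index f (fun c hc => by
    by_contra hcu
    exact hc ((hf c).mpr hcu)) h2 m a ha
  set a₀ : Fin (2 * m) → Fin (2 * m) → A := fun i j => a (i₀.succAbove i) (i₀.succAbove j) with ha₀
  obtain ⟨A₁, _, _, t', h₁'⟩ := exists_isHensFree A Unit
  obtain ⟨t, h₁⟩ : ∃ t : A₁, IsHensFree A A₁ (fun _ : Unit => t) := ⟨t' (), by
    have : t' = fun _ : Unit => t' () := by
      funext i
      rfl
    rwa [this] at h₁'⟩
  have e1 := h₁.henselian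
  have e2 := h₁.isLocalHom
  let jj : A₁ →ₐ[A] R := h₁.lift (fun _ => x i₀) fun _ => h.not_isUnit i₀
  have hjj : jj t = x i₀ := h₁.lift_apply _ (fun _ => h.not_isUnit i₀) ()
  let _ : Algebra A₁ R := jj.toRingHom.toAlgebra
  have e5 : IsScalarTower A A₁ R := IsScalarTower.of_algebraMap_eq fun c => (jj.commutes c).symm
  have ht : algebraMap A₁ R t = x i₀ := hjj
  have hext := extend h₁ h i₀ ht
  have e6 := hext.isLocalHom
  have hIm : (maximalIdeal A).map (algebraMap A A₁) ≤ maximalIdeal A₁ :=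
    ((local_hom_TFAE (algebraMap A A₁)).out 0 2 rfl rfl).mp inferInstance
  have hF' : F - quadEval (fun i j => algebraMap A₁ R (algebraMap A A₁ (a₀ i j)))
      (fun i => x (i₀.succAbove i)) ∈
        (maximalIdeal A₁).map (algebraMap A₁ R) ⊔ maximalIdeal R ^ 3 := by
    have h3 : (maximalIdeal A).map (algebraMap A R) ⊔ maximalIdeal R ^ 3 ≤
        (maximalIdeal A₁).map (algebraMap A₁ R) ⊔ maximalIdeal R ^ 3 := by
      refine sup_le_sup_right ?_ _
      rw [IsScalarTower.algebraMap_eq A A₁ R, ← Ideal.map_map]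
      exact Ideal.map_mono hIm
    have h4 := quadEval_sub_mem (fun i j => algebraMap A R (a i j)) x i₀
    have h5 : Ideal.span {x i₀} ≤ (maximalIdeal A₁).map (algebraMap A₁ R) ⊔ maximalIdeal R ^ 3 := by
      rw [Ideal.span_singleton_le_iff_mem, ← ht]
      exact Ideal.mem_sup_left (Ideal.mem_map_of_mem _ (h₁.mem_maximalIdeal ()))
    have h6 := Ideal.add_mem _ (h3 hF) (h5 h4)
    convert h6 using 1
    simp only [← IsScalarTower.algebraMap_apply, ha₀]
    ring
  have hnd₁ : QuadNondeg fun i j => algebraMap A A₁ (a₀ i j) := quadNondeg_map a₀ hi₀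
  obtain ⟨z, b₁, hz, hb₁, hFz⟩ := exists_morse hext _ hnd₁ F hF'
  obtain ⟨v, hv0, hvp, hγ⟩ := exists_gamma h₁ h i₀ ht hz a _ b₁ F hF hFz
  have hγu := isUnit_gamma f hf a ha i₀ v hv0 hvp
  obtain ⟨b, c, w₁, hb, hc, hw₁, hbc⟩ := exists_weier h₁ (-b₁) _ hγu hγ
  -- the unit
  set w : R := algebraMap A₁ R w₁ with hw
  have hwu : IsUnit w := hw₁.map _
  obtain ⟨w₀, hw₀⟩ := exists_const h w
  have hw₀u : IsUnit w₀ := by
    by_contra hn
    have h3 : algebraMap A R w₀ ∈ maximalIdeal R :=
      ((local_hom_TFAE (algebraMap A R)).out 0 2 rfl rfl).mp inferInstance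
        (Ideal.mem_map_of_mem _ hn)
    have h4 := Ideal.add_mem _ hw₀ h3
    rw [sub_add_cancel] at h4
    exact h4 hwu
  let a' : Fin (2 * m) → Fin (2 * m) → A := fun i j => w₀ * a₀ i j
  have ha' : QuadNondeg a' := by
    have h3 : polarMatrix a' = w₀ • polarMatrix a₀ := by
      ext i j
      rw [Matrix.smul_apply, polarMatrix, polarMatrix, smul_eq_mul]
      split_ifs
      · ring
      · rfl
      · rfl
    rw [QuadNondeg, h3, Matrix.det_smul]
    exact (hw₀u.pow _).mul hi₀
  obtain ⟨M, hM, hMq⟩ := exists_isometry (fun i j => algebraMap A R (a' i j))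
    (fun i j => w * algebraMap A R (a₀ i j)) (quadNondeg_map a' ha') (fun i j _ => by
      have h3 : algebraMap A R (a' i j) - w * algebraMap A R (a₀ i j) =
          -(w - algebraMap A R w₀) * algebraMap A R (a₀ i j) := by
        rw [map_mul]
        ring
      rw [h3]
      exact Ideal.mul_mem_right _ _ (neg_mem hw₀))
  let z' : Fin (2 * m) → R := M *ᵥ z
  have hzz : ∀ i, z' i - z i ∈ maximalIdeal R ^ 2 := by
    intro i
    have h7 : z' i - z i = ((M - 1) *ᵥ z) i := by
      rw [Matrix.sub_mulVec, Matrix.one_mulVec]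
      rfl
    rw [h7, Matrix.mulVec, dotProduct, pow_two]
    refine Ideal.sum_mem _ fun j _ => Ideal.mul_mem_mul ?_ (hz.mem_maximalIdeal j)
    rw [Matrix.sub_apply]
    exact hM i j
  have htr : IsHensFree A R (Fin.cons (x i₀) z : Fin (2 * m + 1) → R) := by
    have h3 := K4.HensTrans.trans h₁ hz
    rwa [ht] at h3
  have hfree : IsHensFree A R (Fin.cons (x i₀) z' : Fin (2 * m + 1) → R) := by
    refine isHensFree_of_generate htr _ (fun i => ?_) (fun i => ?_)
    · have h8 : ∀ j, (Fin.cons (x i₀) z' : Fin (2 * m + 1) → R) j ∈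
          spanIdeal A (Fin.cons (x i₀) z' : Fin (2 * m + 1) → R) := fun j =>
        (le_sup_right.trans le_sup_left : _ ≤ spanIdeal A (Fin.cons (x i₀) z' :
          Fin (2 * m + 1) → R)) (Ideal.subset_span ⟨j, rfl⟩)
      refine Fin.cases ?_ (fun i => ?_) i
      · exact h8 0
      · rw [Fin.cons_succ]
        have h9 : z i = (Fin.cons (x i₀) z' : Fin (2 * m + 1) → R) i.succ - (z' i - z i) := by
          rw [Fin.cons_succ]
          ring
        rw [h9]
        exact Ideal.sub_mem _ (h8 _) ((le_sup_right : _ ≤ spanIdeal A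
          (Fin.cons (x i₀) z' : Fin (2 * m + 1) → R)) (hzz i))
    · refine Fin.cases ?_ (fun i => ?_) i
      · exact h.not_isUnit i₀
      · rw [Fin.cons_succ]
        have h9 := Ideal.add_mem _ (Ideal.pow_le_self two_ne_zero (hzz i)) (hz.mem_maximalIdeal i)
        rw [sub_add_cancel] at h9
        exact h9
  refine ⟨Fin.cons (x i₀) z', a', b, c, w, hfree, ha', hb, hc, hwu, ?_⟩
  have h10 : (fun i : Fin (2 * m) => (Fin.cons (x i₀) z' : Fin (2 * m + 1) → R) i.succ) = z' := by
    funext i
    rw [Fin.cons_succ]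
  rw [h10, Fin.cons_zero, hMq z]
  have h11 : quadEval (fun i j => w * algebraMap A R (a₀ i j)) z =
      w * quadEval (fun i j => algebraMap A R (a₀ i j)) z := by
    rw [quadEval, quadEval, Finset.mul_sum]
    refine Finset.sum_congr rfl fun i _ => ?_
    rw [Finset.mul_sum]
    refine Finset.sum_congr rfl fun j _ => ?_
    split_ifs
    · ring
    · rw [mul_zero]
  have h12 := congr(algebraMap A₁ R $hbc)
  rw [map_mul, map_neg, map_add, map_add, map_mul, map_pow, ht,
    ← IsScalarTower.algebraMap_apply, ← IsScalarTower.algebraMap_apply] at h12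
  rw [h11, ← h12, hFz]
  simp only [← IsScalarTower.algebraMap_apply]
  ring

end K4.DegMorse
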