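import Groth.Agent.VanCyc.K4.OrdEq
import Groth.Agent.VanCyc.K4.DegMorse
import Groth.Agent.Vancyc.H690.Model

/-!
# The henselization of the degenerate model `x_0² + b x_0 + c + Q'(x_1, …, x_{2m})`
-/

set_option autoImplicit false
universe u v

namespace K4.DegModel

open IsLocalRing VanCyc Groth.Agent.Vancyc.H690.HensFree Groth.Agent.Vancyc.H690.HensPres

theorem aeval_degQuadPoly {A R : Type u} [CommRing A] [IsLocalRing A] [CommRing R] [Algebra A R]
    {m : ℕ} (a' : Fin (2 * m) → Fin (2 * m) → A) (b c : A) (z : Fin (2 * m + 1) → R) :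
    MvPolynomial.aeval z (degQuadPoly A a' b c) =
      z 0 ^ 2 + algebraMap A R b * z 0 + algebraMap A R c +
        quadEval (fun i j => algebraMap A R (a' i j)) (fun i => z i.succ) := by
  rw [degQuadPoly, map_add, map_add, map_add, map_mul, map_pow, MvPolynomial.aeval_X,
    MvPolynomial.algHom_C, MvPolynomial.algHom_C, MvPolynomial.aeval_rename,
    Groth.Agent.Vancyc.H690.Morse.aeval_quadPoly]
  rfl

/-- The henselization of the model. -/
theorem exists_model (A : Type u) [CommRing A] [IsLocalRing A] {m : ℕ}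
    (a' : Fin (2 * m) → Fin (2 * m) → A) (b c : A) (hb : b ∈ maximalIdeal A)
    (hc : c ∈ maximalIdeal A) (Q : Ideal (degQuadRing A a' b c)) [Q.IsMaximal]
    (hQ : sideIdeal A a' b c ≤ Q)
    (C : Type u) [CommRing C] [IsLocalRing C] [Algebra (Localization.AtPrime Q) C]
    [IsLocalHom (algebraMap (Localization.AtPrime Q) C)]
    [Hensel.IsHenselization (Localization.AtPrime Q) C]
    [Algebra A C] [IsScalarTower A (Localization.AtPrime Q) C]
    {R : Type u} [CommRing R] [Algebra A R] {z : Fin (2 * m + 1) → R} (h : IsHensFree A R z) :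
    ∃ π : R →ₐ[A] C, Function.Surjective π ∧
      RingHom.ker π = Ideal.span {z 0 ^ 2 + algebraMap A R b * z 0 + algebraMap A R c +
        quadEval (fun i j => algebraMap A R (a' i j)) (fun i => z i.succ)} := by
  let y : Fin (2 * m + 1) → degQuadRing A a' b c := fun i => Ideal.Quotient.mk _ (MvPolynomial.X i)
  have hmk : MvPolynomial.aeval (R := A) y =
      Ideal.Quotient.mkₐ A (Ideal.span {degQuadPoly A a' b c}) := by
    ext i
    rw [MvPolynomial.aeval_X]
    rfl
  have hy : Function.Surjective (MvPolynomial.aeval (R := A) y) := by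
    rw [hmk]
    exact Ideal.Quotient.mkₐ_surjective A _
  have hP : (maximalIdeal A).map (algebraMap A (degQuadRing A a' b c)) ≤ Q := by
    refine le_trans ?_ hQ
    have h1 : algebraMap A (degQuadRing A a' b c) = (Ideal.Quotient.mk _).comp MvPolynomial.C := rfl
    rw [h1, ← Ideal.map_map]
    exact Ideal.map_mono le_sup_left
  have hA : ∀ a ∈ maximalIdeal A, algebraMap A (degQuadRing A a' b c) a ∈ Q := fun a ha =>
    hP (Ideal.mem_map_of_mem _ ha)
  have hys : ∀ i : Fin (2 * m), y i.succ ∈ Q := fun i => hQ (Ideal.mem_map_of_mem _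
    (Ideal.mem_sup_right (Ideal.subset_span ⟨i, rfl⟩)))
  have hrel : y 0 ^ 2 + algebraMap A _ b * y 0 + algebraMap A _ c +
      quadEval (fun i j => algebraMap A _ (a' i j)) (fun i => y i.succ) = 0 := by
    rw [← aeval_degQuadPoly, hmk]
    exact Ideal.Quotient.eq_zero_iff_mem.mpr (Ideal.mem_span_singleton_self _)
  have hy0 : y 0 ∈ Q := by
    have h1 : quadEval (fun i j => algebraMap A (degQuadRing A a' b c) (a' i j))
        (fun i => y i.succ) ∈ Q := by
      rw [quadEval]
      refine Ideal.sum_mem _ fun i _ => Ideal.sum_mem _ fun j _ => ?_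
      split_ifs
      · exact Ideal.mul_mem_left _ _ (hys j)
      · exact Ideal.zero_mem _
    have h2 : y 0 ^ 2 = -(algebraMap A _ b * y 0) - algebraMap A _ c -
        quadEval (fun i j => algebraMap A _ (a' i j)) (fun i => y i.succ) := by
      linear_combination hrel
    have h3 : y 0 ^ 2 ∈ Q := by
      rw [h2]
      exact Q.sub_mem (Q.sub_mem (Q.neg_mem (Q.mul_mem_right _ (hA b hb))) (hA c hc)) h1
    exact Ideal.IsPrime.mem_of_pow_mem inferInstance 2 h3
  have hyP : ∀ i, y i ∈ Q := fun i => Fin.cases hy0 hys i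
  have hpres := isHensPres_of_isHenselization (A := A) y hy Q hP hyP C
  obtain ⟨π, hπ, -, hker⟩ := exists_surjective_ker_eq h hpres
  refine ⟨π, hπ, ?_⟩
  have h1 : RingHom.ker (MvPolynomial.aeval (R := A) y) = Ideal.span {degQuadPoly A a' b c} := by
    rw [hmk]
    ext p
    rw [RingHom.mem_ker, Ideal.Quotient.mkₐ_eq_mk, Ideal.Quotient.eq_zero_iff_mem]
  rw [hker, h1, Ideal.map_span, Set.image_singleton]
  congr 2
  exact aeval_degQuadPoly a' b c z

end K4.DegModel
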