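import Groth.Agent.Ega41.MvPS
import Mathlib.RingTheory.MvPowerSeries.Order

/-!
# The powers of the ideal of variables of a power series ring, in terms of coefficients
-/

set_option autoImplicit false

namespace K4.Ser

open MvPowerSeries Groth.Agent.Ega41.MvPS

variable {σ R : Type*} [CommRing R]

/-- Power series of order at least `n`. -/
noncomputable def Fil (σ R : Type*) [CommRing R] (n : ℕ) : Ideal (MvPowerSeries σ R) where
  carrier := {g | (n : ℕ∞) ≤ g.order}
  zero_mem' := by simp
  add_mem' := fun ha hb => le_trans (le_min ha hb) MvPowerSeries.min_order_le_add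
  smul_mem' := fun _ _ hx => le_trans (le_trans hx le_add_self) MvPowerSeries.le_order_mul

theorem mem_Fil' {n : ℕ} {g : MvPowerSeries σ R} : g ∈ Fil σ R n ↔ (n : ℕ∞) ≤ g.order := Iff.rfl

theorem mem_Fil {n : ℕ} {g : MvPowerSeries σ R} :
    g ∈ Fil σ R n ↔ ∀ d : σ →₀ ℕ, d.degree < n → coeff d g = 0 :=
  ⟨fun h _ hd => MvPowerSeries.coeff_of_lt_order (lt_of_lt_of_le (by exact_mod_cast hd) h),
    fun h => MvPowerSeries.nat_le_order h⟩

theorem mul_mem_Fil {a b : ℕ} {g h : MvPowerSeries σ R} (hg : g ∈ Fil σ R a)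
    (hh : h ∈ Fil σ R b) : g * h ∈ Fil σ R (a + b) := by
  rw [mem_Fil'] at *
  push_cast
  exact le_trans (add_le_add hg hh) MvPowerSeries.le_order_mul

theorem Fil_mono {a b : ℕ} (h : a ≤ b) : Fil σ R b ≤ Fil σ R a := by
  intro g hg
  rw [mem_Fil] at *
  exact fun d hd => hg d (lt_of_lt_of_le hd h)

theorem mem_Fil_one {g : MvPowerSeries σ R} : g ∈ Fil σ R 1 ↔ constantCoeff g = 0 := by
  rw [mem_Fil]
  constructor
  · intro h
    have := h 0 (by simp)
    simpa using this
  · intro h d hd
    have : d = 0 := by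
      rw [← Finsupp.degree_eq_zero_iff]; omega
    subst this
    simpa using h

theorem mem_Fil_zero (g : MvPowerSeries σ R) : g ∈ Fil σ R 0 := by
  rw [mem_Fil]
  intro d hd
  omega

theorem pow_mem_Fil {a : ℕ} {g : MvPowerSeries σ R} (hg : g ∈ Fil σ R a) (n : ℕ) :
    g ^ n ∈ Fil σ R (n * a) := by
  induction n with
  | zero => exact mem_Fil_zero _ |> fun h => by simpa using h
  | succ n ih =>
    rw [pow_succ, Nat.succ_mul]
    exact mul_mem_Fil ih hg

theorem varIdeal_pow_le (n : ℕ) : varIdeal σ R ^ n ≤ Fil σ R n := by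
  induction n with
  | zero => exact fun g _ => mem_Fil_zero g
  | succ n ih =>
    rw [pow_succ, Ideal.mul_le]
    intro r hr s hs
    exact mul_mem_Fil (ih hr) (mem_Fil_one.2 (constantCoeff_of_mem_varIdeal hs))

/-- A power series lies in the `n`-th power of the ideal of variables iff it has order at least `n`. -/
theorem varIdeal_pow_eq [Finite σ] (n : ℕ) : varIdeal σ R ^ n = Fil σ R n := by
  refine le_antisymm (varIdeal_pow_le n) fun g hg => ?_
  apply mem_varIdeal_pow_of_truncTotal_eq_zero
  ext x
  rw [MvPolynomial.coeff_zero]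
  by_cases hx : x.degree < n
  · rw [coeff_truncTotal _ hx]
    exact mem_Fil.1 hg x hx
  · rw [coeff_truncTotal_eq_zero _ (not_lt.mp hx)]

theorem mem_varIdeal_pow_iff [Finite σ] {n : ℕ} {g : MvPowerSeries σ R} :
    g ∈ varIdeal σ R ^ n ↔ ∀ d : σ →₀ ℕ, d.degree < n → coeff d g = 0 := by
  rw [varIdeal_pow_eq, mem_Fil]

theorem coeff_mul_X_single (h : MvPowerSeries σ R) (i k : σ) [Decidable (k = i)] :
    coeff (Finsupp.single i 1) (h * X k) = if k = i then constantCoeff h else 0 := by
  classical
  rw [X, coeff_mul_monomial, mul_one]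
  by_cases hk : k = i
  · subst hk
    rw [if_pos le_rfl, if_pos rfl, tsub_self]; rfl
  · rw [if_neg, if_neg hk]
    intro hle
    have := hle k
    rw [Finsupp.single_eq_same, Finsupp.single_eq_of_ne' (Ne.symm hk)] at this
    omega

theorem coeff_single_mul (a b : MvPowerSeries σ R) (i : σ) :
    coeff (Finsupp.single i 1) (a * b) =
      constantCoeff a * coeff (Finsupp.single i 1) b +
        coeff (Finsupp.single i 1) a * constantCoeff b := by
  have h1 : (a - C (constantCoeff a)) * (b - C (constantCoeff b)) ∈ Fil σ R (1 + 1) :=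
    mul_mem_Fil (mem_Fil_one.2 (by simp)) (mem_Fil_one.2 (by simp))
  have h2 := mem_Fil.1 h1 (Finsupp.single i 1) (by simp)
  have h3 : (a - C (constantCoeff a)) * (b - C (constantCoeff b)) =
      a * b - C (constantCoeff a) * b - C (constantCoeff b) * a +
        C (constantCoeff a * constantCoeff b) := by
    rw [map_mul]; ring
  rw [h3] at h2
  have h4 : coeff (Finsupp.single i 1) (C (σ := σ) (constantCoeff a * constantCoeff b)) = 0 := by
    classical
    rw [coeff_C, if_neg]
    exact fun h => by simpa using DFunLike.congr_fun h i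
  rw [map_add, map_sub, map_sub, coeff_C_mul, coeff_C_mul, h4, add_zero, sub_sub,
    sub_eq_zero] at h2
  rw [h2]; ring

end K4.Ser
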