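import Groth.Agent.Vancyc.H690.HensGen

/-!
# Transitivity of `A{x}`
-/

set_option autoImplicit false
universe u v

namespace K4.HensTrans

open IsLocalRing Groth.Agent.Vancyc.H690.HensFree

/-- `A{t}{z} = A{t, z}`. -/
theorem trans {A A₁ R : Type u} [CommRing A] [IsLocalRing A] [CommRing A₁] [IsLocalRing A₁]
    [CommRing R] [Algebra A A₁] [Algebra A R] [Algebra A₁ R] [IsScalarTower A A₁ R]
    {t : A₁} (h₁ : IsHensFree A A₁ (fun _ : Unit => t)) {N : ℕ} {z : Fin N → R}
    (h₂ : IsHensFree A₁ R z) :
    IsHensFree A R (Fin.cons (algebraMap A₁ R t) z : Fin (N + 1) → R) where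
  henselian := h₂.henselian
  isLocalHom := by
    have e1 := h₁.isLocalHom
    have e2 := h₂.isLocalHom
    rw [IsScalarTower.algebraMap_eq A A₁ R]
    exact RingHom.isLocalHom_comp _ _
  not_isUnit := by
    have e2 := h₂.isLocalHom
    intro i
    refine Fin.cases ?_ (fun i => ?_) i
    · rw [Fin.cons_zero]
      intro hu
      exact h₁.not_isUnit () ((isUnit_map_iff (algebraMap A₁ R) t).mp hu)
    · rw [Fin.cons_succ]
      exact h₂.not_isUnit i
  existsUnique := by
    intro T _ _ _ _ s hs
    let φ₁ : A₁ →ₐ[A] T := h₁.lift (fun _ => s 0) (fun _ => hs 0)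
    have hφ₁ : φ₁ t = s 0 := h₁.lift_apply _ (fun _ => hs 0) ()
    let _ : Algebra A₁ T := φ₁.toRingHom.toAlgebra
    have e3 : IsLocalHom (algebraMap A₁ T) := h₁.isLocalHom_of_mem φ₁ fun _ => by
      rw [hφ₁]
      exact hs 0
    have e4 : IsScalarTower A A₁ T := IsScalarTower.of_algebraMap_eq fun a => (φ₁.commutes a).symm
    let φ : R →ₐ[A₁] T := h₂.lift (fun i => s i.succ) (fun i => hs i.succ)
    have hφ : ∀ i, φ (z i) = s i.succ := fun i => h₂.lift_apply _ (fun i => hs i.succ) i
    refine ⟨φ.restrictScalars A, fun i => ?_, fun ψ hψ => ?_⟩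
    · refine Fin.cases ?_ (fun i => ?_) i
      · rw [Fin.cons_zero]
        exact (φ.commutes t).trans hφ₁
      · rw [Fin.cons_succ]
        exact hφ i
    · have e5 : ψ.comp (IsScalarTower.toAlgHom A A₁ R) = φ₁ := by
        have e6 : ψ (algebraMap A₁ R t) = s 0 := by
          have := hψ 0
          rwa [Fin.cons_zero] at this
        refine h₁.hom_ext (fun _ => ?_) fun _ => ?_
        · change ψ (algebraMap A₁ R t) ∈ _
          rw [e6]
          exact hs 0
        · change ψ (algebraMap A₁ R t) = _
          rw [e6, hφ₁]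
      let ψ' : R →ₐ[A₁] T :=
        { toRingHom := ψ.toRingHom
          commutes' := fun a => congr($e5 a) }
      have e7 : ψ' = φ := by
        have e8 : ∀ i, ψ (z i) = s i.succ := fun i => by
          have := hψ i.succ
          rwa [Fin.cons_succ] at this
        refine h₂.hom_ext (fun i => ?_) fun i => ?_
        · change ψ (z i) ∈ _
          rw [e8]
          exact hs _
        · change ψ (z i) = _
          rw [e8, hφ]
      ext r
      exact congr($e7 r)

/-- `A{x} = A{x_{i₀}}{x_i, i ≠ i₀}`. -/
theorem extend {A A₁ R : Type u} [CommRing A] [IsLocalRing A] [CommRing A₁] [IsLocalRing A₁]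
    [CommRing R] [Algebra A A₁] [Algebra A R] [Algebra A₁ R] [IsScalarTower A A₁ R]
    {t : A₁} (h₁ : IsHensFree A A₁ (fun _ : Unit => t)) {N : ℕ} {x : Fin (N + 1) → R}
    (h : IsHensFree A R x) (i₀ : Fin (N + 1)) (ht : algebraMap A₁ R t = x i₀) :
    IsHensFree A₁ R (fun i => x (i₀.succAbove i)) where
  henselian := h.henselian
  isLocalHom := by
    have := h.henselian
    have := h.isLocalHom
    refine h₁.isLocalHom_of_mem (IsScalarTower.toAlgHom A A₁ R) fun _ => ?_
    change algebraMap A₁ R t ∈ _
    rw [ht]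
    exact h.not_isUnit i₀
  not_isUnit i := h.not_isUnit _
  existsUnique := by
    intro T _ _ _ _ s hs
    let _ : Algebra A T := ((algebraMap A₁ T).comp (algebraMap A A₁)).toAlgebra
    have e1 : IsScalarTower A A₁ T := IsScalarTower.of_algebraMap_eq fun a => rfl
    have e2 : IsLocalHom (algebraMap A A₁) := h₁.isLocalHom
    have e3 : IsLocalHom (algebraMap A T) := by
      rw [IsScalarTower.algebraMap_eq A A₁ T]
      exact RingHom.isLocalHom_comp _ _
    have hT : algebraMap A₁ T t ∈ maximalIdeal T := by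
      intro hu
      exact h₁.not_isUnit () ((isUnit_map_iff (algebraMap A₁ T) t).mp hu)
    let s' : Fin (N + 1) → T := i₀.insertNth (α := fun _ => T) (algebraMap A₁ T t) s
    have hs'0 : s' i₀ = algebraMap A₁ T t := Fin.insertNth_apply_same _ _ _
    have hs's : ∀ i, s' (i₀.succAbove i) = s i := fun i => Fin.insertNth_apply_succAbove _ _ _ _
    have hs' : ∀ i, s' i ∈ maximalIdeal T := by
      intro i
      rcases eq_or_ne i i₀ with rfl | hi
      · rw [hs'0]
        exact hT
      · obtain ⟨j, rfl⟩ := Fin.exists_succAbove_eq hi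
        rw [hs's]
        exact hs j
    let φ : R →ₐ[A] T := h.lift s' hs'
    have hφ : ∀ i, φ (x i) = s' i := fun i => h.lift_apply _ hs' i
    have hcomp : ∀ ψ : R →ₐ[A] T, ψ (x i₀) = algebraMap A₁ T t →
        ψ.comp (IsScalarTower.toAlgHom A A₁ R) = IsScalarTower.toAlgHom A A₁ T := by
      intro ψ hψ
      refine h₁.hom_ext (fun _ => ?_) fun _ => ?_
      · change ψ (algebraMap A₁ R t) ∈ _
        rw [ht, hψ]
        exact hT
      · change ψ (algebraMap A₁ R t) = algebraMap A₁ T t
        rw [ht, hψ]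
    have hc := hcomp φ (by rw [hφ, hs'0])
    refine ⟨{ toRingHom := φ.toRingHom, commutes' := fun a => congr($hc a) }, fun i => ?_,
      fun ψ hψ => ?_⟩
    · exact (hφ _).trans (hs's i)
    · have e5 : ψ.restrictScalars A = φ := by
        have e6 : ∀ i, ψ (x i) = s' i := by
          intro i
          rcases eq_or_ne i i₀ with rfl | hi
          · rw [← ht, ψ.commutes, hs'0]
          · obtain ⟨j, rfl⟩ := Fin.exists_succAbove_eq hi
            rw [hs's]
            exact hψ j
        refine h.hom_ext (fun i => ?_) fun i => ?_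
        · change ψ (x i) ∈ _
          rw [e6]
          exact hs' i
        · change ψ (x i) = _
          rw [e6, hφ]
      ext r
      exact congr($e5 r)

end K4.HensTrans
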