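import Groth.Agent.Vancyc.H578.OrdQuad
import Groth.Agent.Vancyc.H690.FibQuad
import Groth.Agent.Vancyc.H678.P2
import Mathlib.RingTheory.Nakayama
import Mathlib.RingTheory.SurjectiveOnStalks

/-!
# Rational points of hypersurfaces `k[x]/(f)`: powers of the maximal ideal and Jacobian ideal
-/

set_option autoImplicit false
universe u

namespace K4.HypPt

open MvPolynomial IsLocalRing VanCyc Groth.Agent.Lefpen.H702.AffAlg
open Groth.Agent.Vancyc.H690.FibKey Groth.Agent.Vancyc.H690.FibQuad Matrix

local notation "tr" => Groth.Agent.Vancyc.H578.Trans.trans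

section Abs

variable {k : Type u} [Field k] {N : ℕ} {f : MvPolynomial (Fin N) k} {a : Fin N → k}
  {L : Type u} [CommRing L] [IsLocalRing L] [Algebra k L] {g : MvPolynomial (Fin N) k →ₐ[k] L}

/-- `L` behaves as the local ring of `k[x]/(f)` at the point `a`. -/
structure PtData (f : MvPolynomial (Fin N) k) (a : Fin N → k) (g : MvPolynomial (Fin N) k →ₐ[k] L) :
    Prop where
  mem_iff : ∀ (r : ℕ) (p : MvPolynomial (Fin N) k),
    g p ∈ maximalIdeal L ^ r ↔ p ∈ Ideal.span {f} ⊔ ptIdeal a ^ r
  span_co : Ideal.span (Set.range fun i => g (X i - C (a i))) = maximalIdeal L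
  res : ∀ z : L, ∃ c : k, z - algebraMap k L c ∈ maximalIdeal L

/-- The coordinates at the point. -/
noncomputable def co (g : MvPolynomial (Fin N) k →ₐ[k] L) (a : Fin N → k) : Fin N → L :=
  fun i => g (X i - C (a i))

theorem aeval_co_trans (p : MvPolynomial (Fin N) k) : aeval (co g a) (tr a p) = g p := by
  have h : (aeval (co g a) : MvPolynomial (Fin N) k →ₐ[k] L).comp (tr a) = g := by
    ext i
    rw [AlgHom.comp_apply, Groth.Agent.Vancyc.H578.Trans.trans_X, map_add, aeval_X, algHom_C, co,
      map_sub]
    have : g (C (a i)) = algebraMap k _ (a i) := g.commutes (a i)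
    rw [this, sub_add_cancel]
  exact congr($h p)

theorem trans_trans (p : MvPolynomial (Fin N) k) : tr a (tr (-a) p) = p := by
  have h : (tr a).comp (tr (-a)) = AlgHom.id k (MvPolynomial (Fin N) k) := by
    ext i
    simp [Groth.Agent.Vancyc.H578.Trans.trans]
  exact congr($h p)

theorem map_trans (a : Fin N → k) (r : ℕ) {p : MvPolynomial (Fin N) k} (hp : p ∈ ptIdeal a ^ r) :
    tr a p ∈ idealOfVars (Fin N) k ^ r := by
  have h1 := Ideal.mem_map_of_mem (tr a) hp
  rw [Ideal.map_pow] at h1
  have h2 : (ptIdeal a).map (tr a) ≤ idealOfVars (Fin N) k := by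
    rw [ptIdeal, Ideal.map_span, Ideal.span_le]
    rintro _ ⟨_, ⟨i, rfl⟩, rfl⟩
    change tr a (X i - C (a i)) ∈ idealOfVars (Fin N) k
    have : tr a (X i - C (a i)) = X i := by
      rw [map_sub, Groth.Agent.Vancyc.H578.Trans.trans_X, algHom_C]
      change X i + C (a i) - C (a i) = X i
      ring
    rw [this]
    exact Ideal.subset_span ⟨i, rfl⟩
  exact Ideal.pow_right_mono h2 r h1

/-- The Hessian. -/
noncomputable def hess (f : MvPolynomial (Fin N) k) (a : Fin N → k) : Matrix (Fin N) (Fin N) k :=
  Matrix.of fun i j => eval a (pderiv i (pderiv j f))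

theorem polar_eq :
    polarMatrix (quadPart ((tr a f : MvPolynomial (Fin N) k) : MvPowerSeries (Fin N) k)) =
      hess f a := by
  rw [Groth.Agent.Vancyc.H578.Trans.polarMatrix_quadPart]
  ext i j
  rw [hess, Matrix.of_apply, Matrix.of_apply, Groth.Agent.Vancyc.H578.Trans.pderiv_trans,
    Groth.Agent.Vancyc.H578.Trans.pderiv_trans, Groth.Agent.Vancyc.H578.Trans.eval_zero_trans]

variable (h0 : eval a f = 0) (h1 : ∀ j, eval a (pderiv j f) = 0)

include h0 h1 in
theorem trans_noLow :
    NoLowTerms ((tr a f : MvPolynomial (Fin N) k) : MvPowerSeries (Fin N) k) := by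
  refine ⟨?_, fun i => ?_⟩
  · rw [← MvPowerSeries.coeff_zero_eq_constantCoeff_apply, MvPolynomial.coeff_coe,
      ← constantCoeff_eq, ← eval_zero, Groth.Agent.Vancyc.H578.Trans.eval_zero_trans, h0]
  · rw [MvPolynomial.coeff_coe, Groth.Agent.Vancyc.H578.Trans.coeff_single,
      Groth.Agent.Vancyc.H578.Trans.pderiv_trans, Groth.Agent.Vancyc.H578.Trans.eval_zero_trans, h1]

include h0 h1 in
theorem trans_mem_sq : tr a f ∈ idealOfVars (Fin N) k ^ 2 :=
  map_trans a 2 ((mem_ptIdeal_sq_iff a f).2 ⟨h0, h1⟩)

variable (D : PtData f a g)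
include D

theorem g_mem_of_mem (r : ℕ) {p : MvPolynomial (Fin N) k} (hp : p ∈ ptIdeal a ^ r) :
    g p ∈ maximalIdeal L ^ r := (D.mem_iff r p).2 (Submodule.mem_sup_right hp)

theorem co_mem (i : Fin N) : co g a i ∈ maximalIdeal L := by
  rw [← D.span_co]
  exact Ideal.subset_span ⟨i, rfl⟩

theorem span_co' : Ideal.span (Set.range (co g a)) = maximalIdeal L := D.span_co

/-- The relations between the coordinates modulo powers of the maximal ideal. -/
theorem aeval_mem (r : ℕ) (p : MvPolynomial (Fin N) k) (h : aeval (co g a) p ∈ maximalIdeal L ^ r) :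
    p ∈ Ideal.span {tr a f} ⊔ idealOfVars (Fin N) k ^ r := by
  rw [← trans_trans (a := a) p, aeval_co_trans, D.mem_iff] at h
  obtain ⟨y, hy, z, hz, hyz⟩ := Submodule.mem_sup.1 h
  obtain ⟨c, rfl⟩ := Ideal.mem_span_singleton'.1 hy
  rw [← trans_trans (a := a) p, ← hyz, map_add, map_mul]
  exact Submodule.add_mem_sup (Ideal.mul_mem_left _ _ (Ideal.subset_span rfl)) (map_trans a r hz)

include h1 in
theorem deriv_mem (j : Fin N) :
    g (pderiv j f) - ∑ l, algebraMap k L (hess f a l j) * co g a l ∈ maximalIdeal L ^ 2 := by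
  have h2 := taylor_one a (pderiv j f)
  rw [h1, C_0, zero_add] at h2
  have h3 := g_mem_of_mem D 2 h2
  rw [map_sub, map_sum] at h3
  have h4 : ∀ l, g (C (eval a (pderiv l (pderiv j f))) * (X l - C (a l))) =
      algebraMap k L (hess f a l j) * co g a l := by
    intro l
    rw [map_mul]
    congr 1
    exact g.commutes _
  simp only [h4] at h3
  exact h3

include h0 h1 in
theorem lin_indep (b : Fin N → k)
    (hb : ∑ i, algebraMap k L (b i) * co g a i ∈ maximalIdeal L ^ 2) : b = 0 := by
  have h2 : aeval (co g a) (∑ i, C (b i) * X i) ∈ maximalIdeal L ^ 2 := by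
    rw [map_sum]
    simpa using hb
  have h3 := aeval_mem D 2 _ h2
  have h4 : Ideal.span {tr a f} ⊔ idealOfVars (Fin N) k ^ 2 ≤ idealOfVars (Fin N) k ^ 2 :=
    sup_le (by rw [Ideal.span_le, Set.singleton_subset_iff]; exact trans_mem_sq h0 h1) le_rfl
  have h5 := h4 h3
  rw [mem_pow_idealOfVars_iff'] at h5
  funext j
  have h6 := h5 (Finsupp.single j 1) (by simp)
  rw [MvPolynomial.coeff_sum, Finset.sum_eq_single j] at h6
  · rwa [coeff_C_mul, coeff_X, if_pos rfl, mul_one] at h6
  · intro i _ hi
    rw [coeff_C_mul, coeff_X, if_neg, mul_zero]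
    rw [Finsupp.single_left_inj one_ne_zero]
    exact hi
  · intro h; exact absurd (Finset.mem_univ _) h

include h0 h1 in
/-- The Jacobian ideal is the maximal ideal iff the Hessian is invertible. -/
theorem jac_iff :
    Ideal.span (Set.range fun j => g (pderiv j f)) = maximalIdeal L ↔ IsUnit (hess f a).det := by
  classical
  have hd := deriv_mem h1 D
  constructor
  · intro hJ
    have h2 : ∀ l, ∃ c : Fin N → L, ∑ j, c j * g (pderiv j f) = co g a l := by
      intro l
      have := co_mem D l
      rw [← hJ] at this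
      exact Ideal.mem_span_range_iff_exists_fun.1 this
    choose c hc using h2
    choose C' hC' using fun l j => D.res (c l j)
    have h3 : ∀ l, co g a l - ∑ i, algebraMap k L (∑ j, C' l j * hess f a i j) * co g a i ∈
        maximalIdeal L ^ 2 := by
      intro l
      have h5 : ∑ i, algebraMap k L (∑ j, C' l j * hess f a i j) * co g a i =
          ∑ j, algebraMap k L (C' l j) * ∑ i, algebraMap k L (hess f a i j) * co g a i := by
        simp only [map_sum, map_mul, Finset.sum_mul, Finset.mul_sum]
        rw [Finset.sum_comm]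
        exact Finset.sum_congr rfl fun j _ => Finset.sum_congr rfl fun i _ => by ring
      have h4 : co g a l - ∑ i, algebraMap k L (∑ j, C' l j * hess f a i j) * co g a i =
          ∑ j, (c l j - algebraMap k L (C' l j)) * g (pderiv j f) +
          ∑ j, algebraMap k L (C' l j) * (g (pderiv j f) -
            ∑ i, algebraMap k L (hess f a i j) * co g a i) := by
        rw [h5, ← hc l]
        simp only [sub_mul, mul_sub, Finset.sum_sub_distrib]
        ring
      rw [h4]
      refine Ideal.add_mem _ (Ideal.sum_mem _ fun j _ => ?_)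
        (Ideal.sum_mem _ fun j _ => Ideal.mul_mem_left _ _ (hd j))
      rw [pow_two]
      refine Ideal.mul_mem_mul (hC' l j) ?_
      rw [← hJ]
      exact Ideal.subset_span ⟨j, rfl⟩
    let Cm : Matrix (Fin N) (Fin N) k := Matrix.of C'
    have h6 : Cm * (hess f a)ᵀ = 1 := by
      ext l i
      have h7 := lin_indep h0 h1 D
        (fun i => (1 : Matrix (Fin N) (Fin N) k) l i - ∑ j, C' l j * hess f a i j) (by
        have h8 : ∑ i, algebraMap k L
            ((1 : Matrix (Fin N) (Fin N) k) l i - ∑ j, C' l j * hess f a i j) * co g a i =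
            co g a l - ∑ i, algebraMap k L (∑ j, C' l j * hess f a i j) * co g a i := by
          have h9 : ∀ i, algebraMap k L
            ((1 : Matrix (Fin N) (Fin N) k) l i - ∑ j, C' l j * hess f a i j) * co g a i =
              algebraMap k L ((1 : Matrix (Fin N) (Fin N) k) l i) * co g a i -
              algebraMap k L (∑ j, C' l j * hess f a i j) * co g a i := by
            intro i
            rw [map_sub, sub_mul]
          rw [Finset.sum_congr rfl fun i _ => h9 i, Finset.sum_sub_distrib]
          congr 1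
          rw [Finset.sum_eq_single l]
          · rw [Matrix.one_apply_eq, map_one, one_mul]
          · intro b _ hb
            rw [Matrix.one_apply_ne (Ne.symm hb), map_zero, zero_mul]
          · intro h; exact absurd (Finset.mem_univ _) h
        rw [h8]
        exact h3 l)
      have h9 := congr_fun h7 i
      rw [Pi.zero_apply, sub_eq_zero] at h9
      rw [h9, Matrix.mul_apply]
      rfl
    have h10 : (Cm.det) * (hess f a).det = 1 := by
      rw [← Matrix.det_transpose (hess f a), ← Matrix.det_mul, h6, Matrix.det_one]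
    exact IsUnit.of_mul_eq_one_right _ h10
  · intro hH
    apply le_antisymm
    · rw [Ideal.span_le]
      rintro _ ⟨j, rfl⟩
      have := g_mem_of_mem D 1 (p := pderiv j f) (by
        rw [pow_one, mem_ptIdeal_iff]; exact h1 j)
      rwa [pow_one] at this
    · have hfg : (maximalIdeal L).FG := by
        rw [← span_co' D]
        exact Submodule.fg_span (Set.finite_range _)
      refine Submodule.le_of_le_smul_of_le_jacobson_bot (I := maximalIdeal L)
        hfg (IsLocalRing.maximalIdeal_le_jacobson _) ?_
      rw [smul_eq_mul, ← pow_two]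
      conv_lhs => rw [← span_co' D]
      rw [Ideal.span_le]
      rintro _ ⟨l, rfl⟩
      have h2 : co g a l = ∑ j, algebraMap k L ((hess f a)⁻¹ j l) * g (pderiv j f) -
          ∑ j, algebraMap k L ((hess f a)⁻¹ j l) * (g (pderiv j f) -
            ∑ i, algebraMap k L (hess f a i j) * co g a i) := by
        rw [← Finset.sum_sub_distrib]
        have h3 : ∀ j, algebraMap k L ((hess f a)⁻¹ j l) *
            g (pderiv j f) - algebraMap k L ((hess f a)⁻¹ j l) * (g (pderiv j f) -
            ∑ i, algebraMap k L (hess f a i j) * co g a i) =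
            ∑ i, algebraMap k L (hess f a i j * (hess f a)⁻¹ j l) * co g a i := by
          intro j
          rw [← mul_sub, sub_sub_cancel, Finset.mul_sum]
          exact Finset.sum_congr rfl fun i _ => by rw [map_mul]; ring
        rw [Finset.sum_congr rfl fun j _ => h3 j, Finset.sum_comm]
        simp only [← Finset.sum_mul, ← map_sum]
        have h4 : ∀ i, ∑ j, hess f a i j * (hess f a)⁻¹ j l = (1 : Matrix _ _ k) i l := by
          intro i
          rw [← Matrix.mul_nonsing_inv (hess f a) hH]
          rfl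
        simp only [h4]
        rw [Finset.sum_eq_single l]
        · rw [Matrix.one_apply_eq, map_one, one_mul]
        · intro b _ hb
          rw [Matrix.one_apply_ne hb, map_zero, zero_mul]
        · intro h; exact absurd (Finset.mem_univ _) h
      rw [h2]
      refine Ideal.sub_mem _ (Submodule.mem_sup_left ?_) (Submodule.mem_sup_right ?_)
      · exact Ideal.sum_mem _ fun j _ => Ideal.mul_mem_left _ _ (Ideal.subset_span ⟨j, rfl⟩)
      · exact Ideal.sum_mem _ fun j _ => Ideal.mul_mem_left _ _ (hd j)

end Abs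

section Quot

variable {k : Type u} [Field k] {N : ℕ} (f : MvPolynomial (Fin N) k)
  (P : Ideal (MvPolynomial (Fin N) k ⧸ Ideal.span {f})) [P.IsMaximal] (a : Fin N → k)
  (hPa : P.comap (Ideal.Quotient.mk (Ideal.span {f})) = ptIdeal a)

/-- The map to the local ring. -/
noncomputable def g : MvPolynomial (Fin N) k →ₐ[k] Localization.AtPrime P :=
  (IsScalarTower.toAlgHom k (MvPolynomial (Fin N) k ⧸ Ideal.span {f}) (Localization.AtPrime P)).comp
    (Ideal.Quotient.mkₐ k (Ideal.span {f}))

theorem g_apply (p : MvPolynomial (Fin N) k) :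
    g f P p = algebraMap (MvPolynomial (Fin N) k ⧸ Ideal.span {f}) (Localization.AtPrime P)
      (Ideal.Quotient.mk (Ideal.span {f}) p) := rfl

theorem g_self : g f P f = 0 := by
  have : Ideal.Quotient.mk (Ideal.span {f}) f = 0 :=
    Ideal.Quotient.eq_zero_iff_mem.2 (Ideal.subset_span (Set.mem_singleton f))
  rw [g_apply, this, map_zero]

include hPa in
theorem ptData : PtData (L := Localization.AtPrime P) f a (g f P) := by
  have hP : P = (ptIdeal a).map (Ideal.Quotient.mk (Ideal.span {f})) := by
    rw [← hPa, Ideal.map_comap_of_surjective _ Ideal.Quotient.mk_surjective]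
  have hm : maximalIdeal (Localization.AtPrime P) =
      P.map (algebraMap _ (Localization.AtPrime P)) :=
    (Localization.AtPrime.map_eq_maximalIdeal (I := P)).symm
  refine ⟨fun r p => ⟨fun h => ?_, fun h => ?_⟩, ?_, fun z => ?_⟩
  · have h1 : Ideal.Quotient.mk (Ideal.span {f}) p ∈ P ^ r := mem_pow_of_algebraMap_mem P r _ h
    have h2 : P ^ r = (ptIdeal a ^ r).map (Ideal.Quotient.mk (Ideal.span {f})) := by
      rw [Ideal.map_pow, ← hP]
    rw [h2, ← Ideal.mem_comap, Ideal.comap_map_of_surjective _ Ideal.Quotient.mk_surjective] at h1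
    rw [sup_comm]
    have h3 : Ideal.comap (Ideal.Quotient.mk (Ideal.span {f})) ⊥ = Ideal.span {f} := Ideal.mk_ker
    rw [h3] at h1
    exact h1
  · obtain ⟨y, hy, z, hz, rfl⟩ := Submodule.mem_sup.1 h
    obtain ⟨c, rfl⟩ := Ideal.mem_span_singleton'.1 hy
    rw [map_add, map_mul, g_self, mul_zero, zero_add]
    have h1 : Ideal.Quotient.mk (Ideal.span {f}) z ∈ P ^ r := by
      have h2 := Ideal.mem_map_of_mem (Ideal.Quotient.mk (Ideal.span {f})) hz
      rw [Ideal.map_pow, ← hP] at h2
      exact h2
    have h3 := Ideal.mem_map_of_mem (algebraMap _ (Localization.AtPrime P)) h1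
    rw [Ideal.map_pow, ← hm] at h3
    exact h3
  · have h4 : P.map (algebraMap _ (Localization.AtPrime P)) =
        ((ptIdeal a).map (Ideal.Quotient.mk (Ideal.span {f}))).map
          (algebraMap _ (Localization.AtPrime P)) := congrArg _ hP
    rw [hm, h4, ptIdeal, Ideal.map_span, Ideal.map_span, ← Set.range_comp, ← Set.range_comp]
    rfl
  · obtain ⟨w, hw⟩ := (IsLocalization.AtPrime.equivQuotMaximalIdeal P
      (Localization.AtPrime P)).surjective (Ideal.Quotient.mk _ z)
    obtain ⟨q, rfl⟩ := Ideal.Quotient.mk_surjective w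
    obtain ⟨q, rfl⟩ := Ideal.Quotient.mk_surjective q
    refine ⟨eval a q, ?_⟩
    have h1 : Ideal.Quotient.mk P (Ideal.Quotient.mk (Ideal.span {f}) q) =
        Ideal.Quotient.mk P (Ideal.Quotient.mk (Ideal.span {f}) (C (eval a q))) := by
      rw [Ideal.Quotient.eq, ← map_sub, ← Ideal.mem_comap, hPa]
      exact sub_C_mem a q
    rw [h1, IsLocalization.AtPrime.equivQuotMaximalIdeal_apply_mk] at hw
    exact Ideal.Quotient.eq.mp hw.symm

end Quot

end K4.HypPt
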