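import Groth.Agent.VanCyc.K4.OrdFib
import Groth.Agent.Vancyc.H690.Equation2

/-!
# The equation of a rational ordinary quadratic point
-/

set_option autoImplicit false
universe u v

namespace K4.OrdEq

open IsLocalRing VanCyc TensorProduct Groth.Agent.Vancyc.H690.HensFree
  Groth.Agent.Vancyc.H690.HensPres Groth.Agent.Vancyc.H690.FinPres
  Groth.Agent.Vancyc.H690.Transfer Groth.Agent.Vancyc.H690.Equation Groth.Agent.Vancyc.H690

/-- The output of the analysis of the closed fibre. -/
structure OrdData (A B : Type u) [CommRing A] [IsLocalRing A] [CommRing B] [IsLocalRing B]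
    [Algebra A B] {N : ℕ} (X : Fin N → B) (a : Fin N → Fin N → A) : Prop where
  mem : ∀ i, X i ∈ maximalIdeal B
  const : ∀ b : B, ∃ c : A, b - algebraMap A B c ∈ maximalIdeal B
  gen : ∀ z ∈ maximalIdeal B, ∃ c : Fin N → A, z - ∑ i, algebraMap A B (c i) * X i ∈
    (maximalIdeal A).map (algebraMap A B) ⊔ maximalIdeal B ^ 2
  ord : QuadOrd fun i j => algebraMap (ResidueField A) (AlgebraicClosure (ResidueField A))
    (residue A (a i j))
  quad : MvPolynomial.aeval X (quadPoly a) ∈
    (maximalIdeal A).map (algebraMap A B) ⊔ maximalIdeal B ^ 3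
  div : ∀ r, 3 ≤ r → ∀ f p : MvPolynomial (Fin N) A,
    MvPolynomial.map (residue A) (f - quadPoly a) ∈
      MvPolynomial.idealOfVars (Fin N) (ResidueField A) ^ 3 →
    MvPolynomial.aeval X f ∈ (maximalIdeal A).map (algebraMap A B) ⊔ maximalIdeal B ^ r →
    MvPolynomial.aeval X p ∈ (maximalIdeal A).map (algebraMap A B) ⊔ maximalIdeal B ^ r →
    ∃ s : MvPolynomial (Fin N) A, MvPolynomial.map (residue A) (p - s * f) ∈
      MvPolynomial.idealOfVars (Fin N) (ResidueField A) ^ r

/-- The residue field of the closed fibre at a rational point. -/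
theorem surjective_fib {A : Type u} [CommRing A] [IsLocalRing A] (B₀ : Type u) [CommRing B₀]
    [Algebra A B₀] (P : Ideal B₀) [P.IsPrime]
    [IsLocalRing (fibQuot A (Localization.AtPrime P))]
    (hPi : ∀ y : B₀, ∃ c : A, y - algebraMap A B₀ c ∈ P) :
    letI := (fibHom A (Localization.AtPrime P)).toAlgebra
    Function.Surjective (algebraMap (ResidueField A)
      (ResidueField (fibQuot A (Localization.AtPrime P)))) := by
  let _ := (fibHom A (Localization.AtPrime P)).toAlgebra
  intro y
  let B := Localization.AtPrime P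
  let β : B →+* ResidueField (fibQuot A B) :=
    (residue (fibQuot A B)).comp (Ideal.Quotient.mk ((maximalIdeal A).map (algebraMap A B)))
  have hβl : IsLocalHom β := by
    have h1 : Function.Surjective β := residue_surjective.comp Ideal.Quotient.mk_surjective
    exact IsLocalHom.of_surjective β h1
  have hβA : ∀ c : A, β (algebraMap A B c) =
      algebraMap (ResidueField A) (ResidueField (fibQuot A B)) (residue A c) := fun c => rfl
  have hβ0 : ∀ b : B, b ∈ maximalIdeal B → β b = 0 := by
    intro b hb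
    by_contra h
    exact hb ((isUnit_map_iff β b).mp (isUnit_iff_ne_zero.mpr h))
  have h1 : ∀ b : B₀, ∃ c : ResidueField A, β (algebraMap B₀ B b) =
      algebraMap (ResidueField A) (ResidueField (fibQuot A B)) c := by
    intro b
    obtain ⟨c, hc⟩ := hPi b
    refine ⟨residue A c, ?_⟩
    have h2 : algebraMap B₀ B (b - algebraMap A B₀ c) ∈ maximalIdeal B :=
      (IsLocalization.AtPrime.to_map_mem_maximal_iff B P _).mpr hc
    have h3 := hβ0 _ h2
    rw [map_sub, map_sub, ← IsScalarTower.algebraMap_apply, hβA, sub_eq_zero] at h3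
    exact h3
  obtain ⟨b, hb⟩ : ∃ b : B, β b = y := by
    obtain ⟨o, ho⟩ := residue_surjective y
    obtain ⟨b, hb⟩ := Ideal.Quotient.mk_surjective o
    exact ⟨b, by rw [← ho, ← hb]; rfl⟩
  obtain ⟨⟨b₀, s⟩, hbs⟩ := IsLocalization.surj P.primeCompl b
  have hs : β (algebraMap B₀ B s) ≠ 0 :=
    ((IsLocalization.map_units B s).map β).ne_zero
  have hy : y = β (algebraMap B₀ B b₀) / β (algebraMap B₀ B s) := by
    rw [eq_div_iff hs, ← hb, ← map_mul, hbs]
  obtain ⟨c, hc⟩ := h1 b₀
  obtain ⟨c', hc'⟩ := h1 s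
  refine ⟨c / c', ?_⟩
  rw [hy, hc, hc', map_div₀]

/-- The closed fibre of a rational ordinary quadratic point. -/
theorem exists_ordData (A : Type u) [CommRing A] [IsLocalRing A]
    (B₀ : Type u) [CommRing B₀] [Algebra A B₀] [Algebra.FiniteType A B₀]
    (P : Ideal B₀) [P.IsPrime] (hP : (maximalIdeal A).map (algebraMap A B₀) ≤ P)
    (hPi : ∀ y : B₀, ∃ c : A, y - algebraMap A B₀ c ∈ P)
    (n : ℕ) (hq : IsOrdQuadPt (fibHom A (Localization.AtPrime P)) n) :
    ∃ (X : Fin (n + 1) → Localization.AtPrime P) (a : Fin (n + 1) → Fin (n + 1) → A),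
      OrdData A (Localization.AtPrime P) X a := by
  let B := Localization.AtPrime P
  let k := ResidueField A
  let O := fibQuot A B
  have hAB : (maximalIdeal A).map (algebraMap A B) ≤ maximalIdeal B := by
    rw [IsScalarTower.algebraMap_eq A B₀ B, ← Ideal.map_map]
    refine (Ideal.map_mono hP).trans ?_
    rw [Localization.AtPrime.map_eq_maximalIdeal]
  have hO : IsLocalRing O := isLocalRing_fib hAB
  let _ : Algebra k O := (fibHom A B).toAlgebra
  have hess : Algebra.EssFiniteType k O := essFiniteType_fib B₀ P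
  have hs : Function.Surjective (algebraMap k (ResidueField O)) :=
    surjective_fib B₀ P hPi
  obtain ⟨x, hx, hgen, a, ha, hquad, hdiv⟩ := K4.OrdFib.exists_coords hs hq
  let m : B →+* O := Ideal.Quotient.mk _
  have hm : Function.Surjective m := Ideal.Quotient.mk_surjective
  have hmA : ∀ c : A, m (algebraMap A B c) = algebraMap k O (residue A c) := fun c => rfl
  have hmem : ∀ (r : ℕ) (b : B), m b ∈ maximalIdeal O ^ r ↔
      b ∈ (maximalIdeal A).map (algebraMap A B) ⊔ maximalIdeal B ^ r :=
    fun r b => mem_fib_iff r b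
  have hmem1 : ∀ b : B, m b ∈ maximalIdeal O ↔ b ∈ maximalIdeal B := by
    intro b
    have h1 := hmem 1 b
    rwa [pow_one, pow_one, sup_eq_right.mpr hAB] at h1
  choose X hX using fun i => hm (x i)
  choose â hâ using fun i j => residue_surjective (a i j)
  have haev : ∀ p : MvPolynomial (Fin (n + 1)) A,
      m (MvPolynomial.aeval X p) = MvPolynomial.aeval x (MvPolynomial.map (residue A) p) := by
    intro p
    induction p using MvPolynomial.induction_on with
    | C c => rw [MvPolynomial.map_C, MvPolynomial.algHom_C, MvPolynomial.algHom_C, hmA]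
    | add p q hp hq => rw [map_add, map_add, hp, hq, map_add, map_add]
    | mul_X p i hp => rw [map_mul, map_mul, hp, map_mul, map_mul, MvPolynomial.map_X,
        MvPolynomial.aeval_X, MvPolynomial.aeval_X, hX]
  have hâa : MvPolynomial.map (residue A) (quadPoly â) = quadPoly a := by
    rw [map_quadPoly]
    congr 1
    funext i j
    exact hâ i j
  refine ⟨X, â, ⟨fun i => ?_, fun b => ?_, fun z hz => ?_, ?_, ?_, fun r hr f p hf hfX hpX => ?_⟩⟩
  · rw [← hmem1, hX]
    exact hx i
  · obtain ⟨c, hc⟩ := hs (residue O (m b))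
    obtain ⟨c, rfl⟩ := residue_surjective c
    refine ⟨c, ?_⟩
    rw [← hmem1, map_sub, hmA, ← residue_eq_zero_iff, map_sub, ← hc, sub_eq_zero]
    rfl
  · obtain ⟨c, hc⟩ := hgen (m z) ((hmem1 z).mpr hz)
    choose ĉ hĉ using fun i => residue_surjective (c i)
    refine ⟨ĉ, ?_⟩
    have h1 : m (z - ∑ i, algebraMap A B (ĉ i) * X i) =
        m z - ∑ i, algebraMap k O (c i) * x i := by
      rw [map_sub, map_sum]
      congr 1
      refine Finset.sum_congr rfl fun i _ => ?_
      rw [map_mul, hmA, hĉ, hX]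
    refine (hmem 2 _).mp ?_
    rw [h1]
    exact hc
  · simp only [hâ]
    exact ha
  · rw [← hmem, haev, hâa]
    exact hquad
  · rw [← hmem, haev] at hfX hpX
    rw [map_sub, hâa] at hf
    obtain ⟨s, hs⟩ := hdiv r hr _ _ hf hfX hpX
    obtain ⟨ŝ, rfl⟩ := MvPolynomial.map_surjective (residue A) residue_surjective s
    refine ⟨ŝ, ?_⟩
    rw [map_sub, map_mul]
    exact hs

/-- The henselization of a flat `A`-algebra at a rational ordinary quadratic point is a hypersurface. -/
theorem exists_equation {A B Bh : Type u} [CommRing A] [HenselianLocalRing A] [CommRing B]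
    [IsLocalRing B] [Algebra A B] (hAB : (maximalIdeal A).map (algebraMap A B) ≤ maximalIdeal B)
    [Module.Flat A B] [CommRing Bh] [IsLocalRing Bh] [Algebra B Bh] [IsLocalHom (algebraMap B Bh)]
    [Hensel.IsHenselization B Bh] [Algebra A Bh] [IsScalarTower A B Bh] {N : ℕ} {X : Fin N → B}
    {a : Fin N → Fin N → A} (D : OrdData A B X a) {κ : Type} [Finite κ] {R₀ : Type u} [CommRing R₀]
    [Algebra A R₀] {Y : κ → R₀} (h₀ : IsHensFree A R₀ Y) (π₀ : R₀ →ₐ[A] Bh)
    (hπ₀ : Function.Surjective π₀) (hfg : (RingHom.ker π₀).FG) :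
    ∃ (R : Type u) (_ : CommRing R) (_ : IsLocalRing R) (_ : Algebra A R) (x : Fin N → R) (F : R)
      (φ : R →ₐ[A] Bh), IsHensFree A R x ∧ Function.Surjective φ ∧
      RingHom.ker φ = Ideal.span {F} ∧
      F - quadEval (fun i j => algebraMap A R (a i j)) x ∈
        (maximalIdeal A).map (algebraMap A R) ⊔ maximalIdeal R ^ 3 := by
  have hBh : HenselianLocalRing Bh := Hensel.IsHenselization.henselian (R := B)
  have hlocAB : IsLocalHom (algebraMap A B) := ((local_hom_TFAE (algebraMap A B)).out 2 0 rfl rfl).mp hAB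
  have hloc : IsLocalHom (algebraMap A Bh) := by
    rw [IsScalarTower.algebraMap_eq A B Bh]
    exact RingHom.isLocalHom_comp _ _
  have hX : ∀ i, algebraMap B Bh (X i) ∈ maximalIdeal Bh := fun i hu =>
    D.mem i ((isUnit_map_iff (algebraMap B Bh) (X i)).mp hu)
  obtain ⟨R, _, _, x, h⟩ := exists_isHensFree A (Fin N)
  have hR : IsLocalRing R := h.isLocalRing
  let φ : R →ₐ[A] Bh := h.lift (fun i => algebraMap B Bh (X i)) hX
  have hφx : ∀ i, φ (x i) = algebraMap B Bh (X i) := fun i => h.lift_apply _ _ _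
  have hφa : ∀ p : MvPolynomial (Fin N) A,
      φ (MvPolynomial.aeval x p) = algebraMap B Bh (MvPolynomial.aeval X p) := by
    intro p
    induction p using MvPolynomial.induction_on with
    | C c => rw [MvPolynomial.algHom_C, MvPolynomial.algHom_C, AlgHom.commutes,
        ← IsScalarTower.algebraMap_apply]
    | add p q hp hq => rw [map_add, map_add, hp, hq, map_add, map_add]
    | mul_X p i hp => rw [map_mul, map_mul, hp, map_mul, map_mul,
        MvPolynomial.aeval_X, MvPolynomial.aeval_X, hφx]
  -- surjectivity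
  have hφs : Function.Surjective φ := by
    refine surjective_of_gen h φ (fun i => by rw [hφx]; exact hX i) h₀ π₀ hπ₀ fun j => ?_
    have hπl : IsLocalHom (π₀ : R₀ →+* Bh) := by
      have := h₀.henselian
      exact IsLocalHom.of_surjective _ hπ₀
    have hz : π₀ (Y j) ∈ maximalIdeal Bh := fun hu =>
      h₀.not_isUnit j ((isUnit_map_iff (π₀ : R₀ →+* Bh) (Y j)).mp hu)
    obtain ⟨b, hb⟩ := exists_sub_mem (B := B) 2 (π₀ (Y j))
    have hbm : b ∈ maximalIdeal B := by
      by_contra hu
      have hu' : IsUnit b := by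
        by_contra h; exact hu h
      have h1 : algebraMap B Bh b ∈ maximalIdeal Bh := by
        have h2 := sub_mem hz (Ideal.pow_le_self two_ne_zero hb)
        rwa [sub_sub_cancel] at h2
      exact h1 (hu'.map _)
    obtain ⟨c, hc⟩ := D.gen b hbm
    have h1 := (mem_hens_iff (A := A) (Bh := Bh) 2 _).mpr hc
    rw [map_sub, map_sum] at h1
    have h2 : π₀ (Y j) = (π₀ (Y j) - algebraMap B Bh b) +
        ((algebraMap B Bh b - ∑ i, algebraMap B Bh (algebraMap A B (c i) * X i)) +
          ∑ i, algebraMap B Bh (algebraMap A B (c i) * X i)) := by ring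
    rw [h2]
    refine add_mem (Ideal.mem_sup_right hb) (add_mem ?_ (Ideal.mem_sup_left
      (Ideal.mem_sup_right (Ideal.sum_mem _ fun i _ => ?_))))
    · exact (sup_le (le_sup_left.trans le_sup_left) le_sup_right :
        (maximalIdeal A).map (algebraMap A Bh) ⊔ maximalIdeal Bh ^ 2 ≤ _) h1
    · rw [map_mul]
      exact Ideal.mul_mem_left _ _ (Ideal.subset_span ⟨i, hφx i⟩)
  have hker : (RingHom.ker φ).FG := ker_fg h φ hφs h₀ π₀ hπ₀ hfg
  -- the ideals `𝔪_A + 𝔪^r`
  have hmap : ∀ r, ((maximalIdeal A).map (algebraMap A R) ⊔ maximalIdeal R ^ r).map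
      (φ : R →+* Bh) = (maximalIdeal A).map (algebraMap A Bh) ⊔ maximalIdeal Bh ^ r := by
    intro r
    have hm1 : (maximalIdeal R).map (φ : R →+* Bh) = maximalIdeal Bh :=
      FinPres.map_maximalIdeal_of_surjective (φ : R →+* Bh) hφs
    rw [Ideal.map_sup, Ideal.map_map, φ.comp_algebraMap, Ideal.map_pow, hm1]
  have hdown : ∀ (r : ℕ) (p : MvPolynomial (Fin N) A), φ (MvPolynomial.aeval x p) ∈
      (maximalIdeal A).map (algebraMap A Bh) ⊔ maximalIdeal Bh ^ r →
      MvPolynomial.aeval X p ∈ (maximalIdeal A).map (algebraMap A B) ⊔ maximalIdeal B ^ r := by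
    intro r p hp
    rw [hφa] at hp
    exact (mem_hens_iff r _).mp hp
  -- the equation
  obtain ⟨t, ht, htQ⟩ : ∃ t ∈ (maximalIdeal A).map (algebraMap A R) ⊔ maximalIdeal R ^ 3,
      φ t = φ (MvPolynomial.aeval x (quadPoly a)) := by
    have h1 : φ (MvPolynomial.aeval x (quadPoly a)) ∈
        ((maximalIdeal A).map (algebraMap A R) ⊔ maximalIdeal R ^ 3).map (φ : R →+* Bh) := by
      rw [hmap, hφa]
      exact (mem_hens_iff 3 _).mpr D.quad
    exact (Ideal.mem_map_iff_of_surjective (φ : R →+* Bh) hφs).mp h1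
  let F : R := MvPolynomial.aeval x (quadPoly a) - t
  have hφF : φ F = 0 := by
    change φ (MvPolynomial.aeval x (quadPoly a) - t) = 0
    rw [map_sub, htQ, sub_self]
  have hFQ : F - MvPolynomial.aeval x (quadPoly a) ∈
      (maximalIdeal A).map (algebraMap A R) ⊔ maximalIdeal R ^ 3 := by
    have h1 : F - MvPolynomial.aeval x (quadPoly a) = -t := by
      change MvPolynomial.aeval x (quadPoly a) - t - MvPolynomial.aeval x (quadPoly a) = -t
      ring
    rw [h1]
    exact neg_mem ht
  refine ⟨R, inferInstance, hR, inferInstance, x, F, φ, h, hφs, ?_, ?_⟩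
  · have hflat : Module.Flat A Bh := by
      have := (Groth.Agent.S0509.result B Bh).toFlat
      exact Module.Flat.trans A B Bh
    refine FlatKer.ker_eq_span h φ hφs hker F hφF fun z hz r hr => ?_
    obtain ⟨f, hf⟩ := Trunc.exists_aeval_sub_mem h r F
    obtain ⟨p, hp⟩ := Trunc.exists_aeval_sub_mem h r z
    set I := (maximalIdeal A).map (algebraMap A R) ⊔ maximalIdeal R ^ r with hI
    have hI3 : I ≤ (maximalIdeal A).map (algebraMap A R) ⊔ maximalIdeal R ^ 3 :=
      sup_le_sup_left (Ideal.pow_le_pow_right hr) _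
    have hzero : ∀ (w : R) (p : MvPolynomial (Fin N) A), φ w = 0 →
        w - MvPolynomial.aeval x p ∈ I → MvPolynomial.aeval X p ∈
          (maximalIdeal A).map (algebraMap A B) ⊔ maximalIdeal B ^ r := by
      intro w p hw hwp
      refine hdown r p ?_
      rw [← hmap, ← hI]
      have h1 := Ideal.mem_map_of_mem (φ : R →+* Bh) hwp
      have h2 : (φ : R →+* Bh) (w - MvPolynomial.aeval x p) = - φ (MvPolynomial.aeval x p) := by
        change φ (w - MvPolynomial.aeval x p) = _
        rw [map_sub, hw, zero_sub]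
      rw [h2] at h1
      exact neg_mem_iff.mp h1
    have h3 : MvPolynomial.map (residue A) (f - quadPoly a) ∈
        MvPolynomial.idealOfVars (Fin N) (ResidueField A) ^ 3 := by
      rw [← Trunc.aeval_mem_iff h, map_sub]
      have h4 := sub_mem hFQ (hI3 hf)
      have h5 : F - MvPolynomial.aeval x (quadPoly a) - (F - MvPolynomial.aeval x f) =
        MvPolynomial.aeval x f - MvPolynomial.aeval x (quadPoly a) := by ring
      rwa [h5] at h4
    obtain ⟨s, hs⟩ := D.div r hr f p h3 (hzero F f hφF hf) (hzero z p hz hp)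
    rw [← Trunc.aeval_mem_iff h, map_sub, map_mul, ← hI] at hs
    have h4 : z = MvPolynomial.aeval x s * F + ((z - MvPolynomial.aeval x p) +
        (MvPolynomial.aeval x p - MvPolynomial.aeval x s * MvPolynomial.aeval x f) -
          MvPolynomial.aeval x s * (F - MvPolynomial.aeval x f)) := by ring
    rw [h4]
    exact Submodule.add_mem_sup (Ideal.mul_mem_left _ _ (Ideal.mem_span_singleton_self F))
      (sub_mem (add_mem hp hs) (Ideal.mul_mem_left _ _ hf))
  · rw [Morse.aeval_quadPoly] at hFQ
    exact hFQ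

end K4.OrdEq
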