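import Groth.Agent.Vancyc.H690.FibQuad
import Groth.Agent.Vancyc.H690.FibCoord

/-!
# Coordinates and equation at a rational ordinary quadratic point over a field
-/

set_option autoImplicit false
universe u v

namespace K4.OrdFib

open IsLocalRing TensorProduct VanCyc Groth.Agent.Vancyc.H690.FibKey Groth.Agent.Vancyc.H689.PSPow
  Groth.Agent.Vancyc.H690.FibQuad Groth.Agent.Vancyc.H690.ResDer Groth.Agent.Vancyc.H690.FibCoord

section Quad

variable {K : Type u} [Field K] {N : ℕ} {k : Type u} [Field k] [Algebra k K] {O : Type u}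
  [CommRing O] [IsLocalRing O] [Algebra k O]

/-- **The equation descends.** -/
theorem exists_quad (x : Fin N → O) (g : MvPowerSeries (Fin N) K)
    (hg : NoLowTerms g) (hne : ∃ i j, i ≤ j ∧ quadPart g i j ≠ 0)
    (D : ∀ (ℓ : K →ₗ[k] k) (r : ℕ) (p : MvPolynomial (Fin N) K),
      (p : MvPowerSeries (Fin N) K) ∈ Ideal.span {g} ⊔ M K N ^ r →
      MvPolynomial.aeval x (lc ℓ p) ∈ maximalIdeal O ^ r)
    (U : ∀ (r : ℕ) (p : MvPolynomial (Fin N) k), MvPolynomial.aeval x p ∈ maximalIdeal O ^ r →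
      ((MvPolynomial.map (algebraMap k K) p : MvPolynomial (Fin N) K) :
        MvPowerSeries (Fin N) K) ∈ Ideal.span {g} ⊔ M K N ^ r) :
    ∃ a : Fin N → Fin N → k, (∃ c : K, c ≠ 0 ∧
        ∀ i j, i ≤ j → algebraMap k K (a i j) = c * quadPart g i j) ∧
      MvPolynomial.aeval x (quadPoly a) ∈ maximalIdeal O ^ 3 ∧
      ∀ r, 3 ≤ r → ∀ f p : MvPolynomial (Fin N) k,
        f - quadPoly a ∈ MvPolynomial.idealOfVars (Fin N) k ^ 3 →
        MvPolynomial.aeval x f ∈ maximalIdeal O ^ r → MvPolynomial.aeval x p ∈ maximalIdeal O ^ r →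
        ∃ s : MvPolynomial (Fin N) k, p - s * f ∈ MvPolynomial.idealOfVars (Fin N) k ^ r := by
  set q := quadPart g with hqdef
  have hspan : ∀ (r : ℕ) (P : MvPowerSeries (Fin N) K), P ∈ Ideal.span {g} ⊔ M K N ^ r →
      ∃ v m, m ∈ M K N ^ r ∧ P = v * g + m := by
    intro r P hP
    obtain ⟨y, hy, m, hm, hym⟩ := Submodule.mem_sup.mp hP
    obtain ⟨v, hv⟩ := Ideal.mem_span_singleton'.mp hy
    exact ⟨v, m, hm, by rw [hv, hym]⟩
  obtain ⟨i₀, j₀, hij₀, hq₀⟩ := hne
  obtain ⟨ℓ, hℓ⟩ : ∃ ℓ : K →ₗ[k] k, ℓ (q i₀ j₀) ≠ 0 := by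
    by_contra h
    push Not at h
    exact hq₀ ((Module.forall_dual_apply_eq_zero_iff k _).mp h)
  let a : Fin N → Fin N → k := fun i j => ℓ (q i j)
  have hq3 : ((quadPoly q : MvPolynomial (Fin N) K) : MvPowerSeries (Fin N) K) ∈
      Ideal.span {g} ⊔ M K N ^ 3 := by
    have h1 := sub_quadPart_mem hg
    have h2 : ((quadPoly q : MvPolynomial (Fin N) K) :
        MvPowerSeries (Fin N) K) = g - (g - ((quadPoly q :
          MvPolynomial (Fin N) K) : MvPowerSeries (Fin N) K)) := by ring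
    rw [h2]
    exact Ideal.sub_mem _ (Ideal.mem_sup_left (Ideal.mem_span_singleton_self g))
      (Ideal.mem_sup_right h1)
  have ha3 : MvPolynomial.aeval x (quadPoly a) ∈ maximalIdeal O ^ 3 := by
    have h1 := D ℓ 3 _ hq3
    rwa [lc_quadPoly] at h1
  obtain ⟨v₀, m₀, hm₀, hv₀⟩ := hspan 3 _ (U 3 _ ha3)
  rw [map_quadPoly] at hv₀
  set c := MvPowerSeries.constantCoeff v₀ with hcdef
  have hac : ((quadPoly fun i j => algebraMap k K (a i j) : MvPolynomial (Fin N) K) :
      MvPowerSeries (Fin N) K) - MvPowerSeries.C c * ((quadPoly q : MvPolynomial (Fin N) K) :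
        MvPowerSeries (Fin N) K) ∈ M K N ^ 3 := by
    have h1 := add_mem (mul_sub_mem hg v₀) hm₀
    rw [hv₀]
    convert h1 using 1
    ring
  have hac' := eq_of_sub_mem _ _ _ hac
  have hc : c ≠ 0 := by
    intro h
    have h1 := hac' i₀ j₀ hij₀
    rw [h, zero_mul] at h1
    exact hℓ ((map_eq_zero_iff _ (algebraMap k K).injective).mp h1)
  refine ⟨a, ⟨c, hc, hac'⟩, ha3, fun r hr f p hf hfx hpx => ?_⟩
  · obtain ⟨v, m, hm, hv⟩ := hspan r _ (U r _ hfx)
    obtain ⟨w, m', hm', hw⟩ := hspan r _ (U r _ hpx)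
    have hle : M K N ^ r ≤ M K N ^ 3 := Ideal.pow_le_pow_right hr
    have hfa : ((MvPolynomial.map (algebraMap k K) f : MvPolynomial (Fin N) K) :
        MvPowerSeries (Fin N) K) - ((quadPoly fun i j => algebraMap k K (a i j) :
          MvPolynomial (Fin N) K) : MvPowerSeries (Fin N) K) ∈ M K N ^ 3 := by
      have h1 := (coe_mem_pow_iff 3 _).mpr (map_mem (K := K) 3 _ hf)
      rwa [map_sub, map_quadPoly, coe_sub] at h1
    have hvc : MvPowerSeries.constantCoeff v = c := by
      have h1 : MvPowerSeries.C (c - MvPowerSeries.constantCoeff v) *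
          ((quadPoly q : MvPolynomial (Fin N) K) : MvPowerSeries (Fin N) K) ∈ M K N ^ 3 := by
        have h2 := sub_mem (sub_mem (add_mem (mul_sub_mem hg v) (hle hm)) hfa) hac
        convert h2 using 1
        rw [hv, map_sub]
        ring
      have h2 := eq_of_sub_mem 0 q (c - MvPowerSeries.constantCoeff v) (by
        have h3 : (quadPoly (0 : Fin N → Fin N → K)) = 0 := by
          rw [quadPoly]
          refine Finset.sum_eq_zero fun i _ => Finset.sum_eq_zero fun j _ => ?_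
          split_ifs
          · simp
          · rfl
        rw [h3, MvPolynomial.coe_zero, zero_sub]
        exact neg_mem h1) i₀ j₀ hij₀
      rw [Pi.zero_apply, Pi.zero_apply, eq_comm, mul_eq_zero, sub_eq_zero] at h2
      rcases h2 with h2 | h2
      · exact h2.symm
      · exact absurd h2 hq₀
    have hunit : IsUnit v := by
      rw [MvPowerSeries.isUnit_iff_constantCoeff, hvc]
      exact isUnit_iff_ne_zero.mpr hc
    obtain ⟨v, rfl⟩ := hunit
    obtain ⟨s, hs⟩ := exists_poly r (w * (↑v⁻¹ : MvPowerSeries (Fin N) K))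
    obtain ⟨ℓ₁, hℓ₁⟩ : ∃ ℓ₁ : K →ₗ[k] k, ℓ₁ 1 = 1 := by
      obtain ⟨ℓ', hℓ'⟩ : ∃ ℓ' : K →ₗ[k] k, ℓ' 1 ≠ 0 := by
        by_contra h
        push Not at h
        exact one_ne_zero ((Module.forall_dual_apply_eq_zero_iff k _).mp h)
      refine ⟨(ℓ' 1)⁻¹ • ℓ', ?_⟩
      rw [LinearMap.smul_apply, smul_eq_mul, inv_mul_cancel₀ hℓ']
    refine ⟨lc ℓ₁ s, ?_⟩
    rw [← lc_sub_mul ℓ₁ hℓ₁ p f s]
    refine lc_mem ℓ₁ r _ ?_
    rw [← coe_mem_pow_iff, coe_sub, MvPolynomial.coe_mul]
    have h5 : (↑v⁻¹ : MvPowerSeries (Fin N) K) * v = 1 := v.inv_mul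
    have h6 := sub_mem (add_mem hm' (Ideal.mul_mem_right
      ((MvPolynomial.map (algebraMap k K) f : MvPolynomial (Fin N) K) : MvPowerSeries (Fin N) K) _
        hs)) (Ideal.mul_mem_left _ (w * (↑v⁻¹ : MvPowerSeries (Fin N) K)) hm)
    convert h6 using 1
    rw [hw, hv]
    linear_combination (-w * g) * h5

end Quad

/-- Some coefficient of an ordinary form is non-zero. -/
theorem exists_ne_zero_of_ord {K : Type u} [Field K] {N : ℕ} (hN : 0 < N) (q : Fin N → Fin N → K)
    (hq : QuadOrd q) : ∃ i j, i ≤ j ∧ q i j ≠ 0 := by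
  by_contra h
  push Not at h
  have h1 : polarMatrix q = 0 := by
    ext i j
    rw [polarMatrix]
    split_ifs with h1 h2
    · rw [h i i le_rfl, mul_zero]
      rfl
    · rw [h i j h2.le]
      rfl
    · rw [h j i (not_lt.mp h2)]
      rfl
  have h2 : ∀ v, quadEval q v = 0 := by
    intro v
    rw [quadEval]
    refine Finset.sum_eq_zero fun i _ => Finset.sum_eq_zero fun j _ => ?_
    split_ifs with h3
    · rw [h i j h3, zero_mul, zero_mul]
    · rfl
  have h3 := hq (fun _ => 1) (h2 _) (by rw [h1, Matrix.zero_mulVec])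
  exact one_ne_zero (congr_fun h3 ⟨0, hN⟩)

/-- Non-zero multiples of ordinary forms are ordinary. -/
theorem quadOrd_of_eq {K : Type u} [Field K] {N : ℕ} (a q : Fin N → Fin N → K) (c : K) (hc : c ≠ 0)
    (h : ∀ i j, i ≤ j → a i j = c * q i j) (hq : QuadOrd q) : QuadOrd a := by
  have h1 : polarMatrix a = c • polarMatrix q := by
    ext i j
    rw [Matrix.smul_apply, polarMatrix, polarMatrix]
    split_ifs with h1 h2
    · rw [h i i le_rfl, smul_eq_mul]
      ring
    · rw [h i j h2.le]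
      rfl
    · rw [h j i (not_lt.mp h2)]
      rfl
  have h2 : ∀ v, quadEval a v = c * quadEval q v := by
    intro v
    rw [quadEval, quadEval, Finset.mul_sum]
    refine Finset.sum_congr rfl fun i _ => ?_
    rw [Finset.mul_sum]
    refine Finset.sum_congr rfl fun j _ => ?_
    split_ifs with h3
    · rw [h i j h3]
      ring
    · rw [mul_zero]
  intro v hv hv'
  refine hq v ?_ ?_
  · rw [h2] at hv
    exact (mul_eq_zero.mp hv).resolve_left hc
  · rw [h1, Matrix.smul_mulVec] at hv'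
    exact (smul_eq_zero.mp hv').resolve_left hc

/-- Coordinates at a quadratic point. -/
theorem exists_gen {K L : Type u} [Field K] [CommRing L] [IsLocalRing L] [IsNoetherianRing L]
    [Algebra K L] {n : ℕ} (hq : IsOrdQuadSing K L n) :
    ∃ x : Fin (n + 1) → L, (∀ i, x i ∈ maximalIdeal L) ∧
      maximalIdeal L ≤ Ideal.span (Set.range x) ⊔ maximalIdeal L ^ 2 := by
  obtain ⟨f, hf, ⟨e⟩⟩ := hq
  obtain ⟨τ, hτ, hk⟩ := Groth.Agent.Vancyc.H689.TruncPS.hasTrunc_of_completion f e 2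
  choose x hx using fun i => Ideal.Quotient.mk_surjective (τ (MvPowerSeries.X i))
  have hker : ∀ g, g ∈ Groth.Agent.Vancyc.H689.PSPow.M K (n + 1) ^ 2 → τ g = 0 := by
    intro g hg
    rw [← RingHom.mem_ker, hk]
    exact Ideal.mem_sup_right hg
  have hx1 : ∀ i, x i ∈ maximalIdeal L := by
    intro i
    have h1 : x i ^ 2 ∈ maximalIdeal L ^ 2 := by
      rw [← Ideal.Quotient.eq_zero_iff_mem, map_pow, hx, ← map_pow]
      have h2 : (MvPowerSeries.X i : MvPowerSeries (Fin (n + 1)) K) ∈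
          Groth.Agent.Vancyc.H689.PSPow.M K (n + 1) := Ideal.subset_span (Set.mem_range_self i)
      exact hker _ (Ideal.pow_mem_pow h2 2)
    exact Ideal.IsPrime.mem_of_pow_mem inferInstance 2 (Ideal.pow_le_self two_ne_zero h1)
  have hspan : ∀ g ∈ Groth.Agent.Vancyc.H689.PSPow.M K (n + 1), ∀ l : L,
      Ideal.Quotient.mk (maximalIdeal L ^ 2) l = τ g →
      l ∈ Ideal.span (Set.range x) ⊔ maximalIdeal L ^ 2 := by
    intro g hg l hl
    have h1 : τ g ∈ (Ideal.span (Set.range x)).map (Ideal.Quotient.mk (maximalIdeal L ^ 2)) := by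
      have h2 := Ideal.mem_map_of_mem τ hg
      rw [Groth.Agent.Vancyc.H689.PSPow.M, Ideal.map_span, ← Set.range_comp] at h2
      rw [Ideal.map_span, ← Set.range_comp]
      have h3 : (τ ∘ MvPowerSeries.X : Fin (n + 1) → L ⧸ maximalIdeal L ^ 2) =
          (Ideal.Quotient.mk (maximalIdeal L ^ 2)) ∘ x := by
        funext i
        exact (hx i).symm
      rwa [h3] at h2
    rw [← hl] at h1
    have h2 : l ∈ ((Ideal.span (Set.range x)).map (Ideal.Quotient.mk (maximalIdeal L ^ 2))).comap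
      (Ideal.Quotient.mk (maximalIdeal L ^ 2)) := h1
    rw [Ideal.comap_map_of_surjective _ Ideal.Quotient.mk_surjective] at h2
    have h3 : (⊥ : Ideal (L ⧸ maximalIdeal L ^ 2)).comap (Ideal.Quotient.mk (maximalIdeal L ^ 2)) =
        maximalIdeal L ^ 2 := by
      ext z
      rw [Ideal.mem_comap, Ideal.mem_bot, Ideal.Quotient.eq_zero_iff_mem]
    rwa [h3] at h2
  refine ⟨x, hx1, fun l hl => ?_⟩
  obtain ⟨g, hg⟩ := hτ (Ideal.Quotient.mk _ l)
  set c := MvPowerSeries.constantCoeff g with hc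
  have hgc : g - MvPowerSeries.C c ∈ Groth.Agent.Vancyc.H689.PSPow.M K (n + 1) := by
    rw [Groth.Agent.Vancyc.H689.PSPow.M, Groth.Agent.CurvesB.SeriesEval.mem_span_range_X_iff]
    simp [hc]
  have hτc : τ (MvPowerSeries.C c) = Ideal.Quotient.mk _ (algebraMap K L c) := by
    have h1 : (MvPowerSeries.C c : MvPowerSeries (Fin (n + 1)) K) = algebraMap K _ c := rfl
    rw [h1, AlgHom.commutes]
    rfl
  have h2 := hspan _ hgc (l - algebraMap K L c) (by rw [map_sub, map_sub, hg, hτc])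
  have hle : Ideal.span (Set.range x) ⊔ maximalIdeal L ^ 2 ≤ maximalIdeal L := by
    refine sup_le ?_ (Ideal.pow_le_self two_ne_zero)
    rw [Ideal.span_le]
    rintro _ ⟨i, rfl⟩
    exact hx1 i
  have h3 : algebraMap K L c ∈ maximalIdeal L := by
    have h4 := Ideal.sub_mem _ hl (hle h2)
    rwa [sub_sub_cancel] at h4
  have h4 : c = 0 := by
    by_contra h5
    exact h3 ((isUnit_iff_ne_zero.mpr h5).map (algebraMap K L))
  rwa [h4, map_zero, sub_zero] at h2

/-- **Coordinates and equation** of a local `k`-algebra with residue field `k` which is geometrically a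
non-ordinary quadratic singularity. -/
theorem exists_coords {k O : Type u} [Field k] [CommRing O] [IsLocalRing O] [Algebra k O]
    [Algebra.EssFiniteType k O] (hs : Function.Surjective (algebraMap k (ResidueField O))) {n : ℕ}
    (hq : ∀ (M : Ideal (AlgebraicClosure k ⊗[k] O)) [M.IsMaximal],
      IsOrdQuadSing (AlgebraicClosure k) (Localization.AtPrime M) n) :
    ∃ x : Fin (n + 1) → O, (∀ i, x i ∈ maximalIdeal O) ∧
      (∀ z ∈ maximalIdeal O, ∃ c : Fin (n + 1) → k, z - ∑ i, algebraMap k O (c i) * x i ∈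
        maximalIdeal O ^ 2) ∧
      ∃ a : Fin (n + 1) → Fin (n + 1) → k,
        QuadOrd (fun i j => algebraMap k (AlgebraicClosure k) (a i j)) ∧
      MvPolynomial.aeval x (quadPoly a) ∈ maximalIdeal O ^ 3 ∧
      ∀ r, 3 ≤ r → ∀ f p : MvPolynomial (Fin (n + 1)) k,
        f - quadPoly a ∈ MvPolynomial.idealOfVars (Fin (n + 1)) k ^ 3 →
        MvPolynomial.aeval x f ∈ maximalIdeal O ^ r → MvPolynomial.aeval x p ∈ maximalIdeal O ^ r →
        ∃ s : MvPolynomial (Fin (n + 1)) k,
          p - s * f ∈ MvPolynomial.idealOfVars (Fin (n + 1)) k ^ r := by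
  let κ := ResidueField O
  let K := AlgebraicClosure k
  have halg : Algebra.IsAlgebraic k κ := by
    refine ⟨fun y => ?_⟩
    obtain ⟨c, rfl⟩ := hs y
    exact isAlgebraic_algebraMap c
  let emb : κ →ₐ[k] K := IsAlgClosed.lift
  let _ : Algebra κ K := emb.toRingHom.toAlgebra
  have : IsScalarTower k κ K := IsScalarTower.of_algebraMap_eq fun c => (emb.commutes c).symm
  have : IsNoetherianRing (K ⊗[k] O) := Algebra.EssFiniteType.isNoetherianRing K _
  let L := Localization.AtPrime (RingHom.ker (Groth.Agent.Vancyc.H690.ResDer.mu k κ K O))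
  have : IsNoetherianRing L := IsLocalization.isNoetherianRing
    (RingHom.ker (Groth.Agent.Vancyc.H690.ResDer.mu k κ K O)).primeCompl L inferInstance
  have hq' : IsOrdQuadSing K L n := hq _
  obtain ⟨x₀, hx₀, hgen₀⟩ := exists_gen hq'
  have hκ : ∀ b : O, algebraMap O κ b = 0 → b ∈ maximalIdeal O := fun b hb =>
    (residue_eq_zero_iff b).mp hb
  have hκ' : ∀ b ∈ maximalIdeal O, algebraMap O κ b = 0 := fun b hb =>
    (residue_eq_zero_iff b).mpr hb
  obtain ⟨x, hx, hgenO⟩ := exists_coord_of_rank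
    (rank_cotangent_le k κ K O L hκ hκ' hs x₀ hx₀ hgen₀)
  refine ⟨x, hx, hgenO, ?_⟩
  let x' : Fin (n + 1) → L := fun i => algebraMap (K ⊗[k] O) L (1 ⊗ₜ x i)
  have hmemL : ∀ (b : O) (r : ℕ), b ∈ maximalIdeal O ^ r →
      algebraMap (K ⊗[k] O) L (1 ⊗ₜ b) ∈ maximalIdeal L ^ r :=
    fun b r hb => algebraMap_mem (κ := κ) (k := k) (K := K) (L := L) hκ' b r hb
  have hx' : ∀ i, x' i ∈ maximalIdeal L := fun i => by
    have h1 := hmemL (x i) 1 (by rw [pow_one]; exact hx i)
    rwa [pow_one] at h1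
  have hgen : maximalIdeal L ≤ Ideal.span (Set.range x') ⊔ maximalIdeal L ^ 2 := by
    have hmax : ((maximalIdeal O).map
        (Algebra.TensorProduct.includeRight : O →ₐ[k] K ⊗[k] O)).map (algebraMap (K ⊗[k] O) L) =
        maximalIdeal L := by
      rw [← ker_mu (K := K) hκ hκ' hs,
        IsLocalization.AtPrime.map_eq_maximalIdeal (RingHom.ker (mu k κ K O)) L]
    refine hmax.ge.trans (Ideal.map_le_iff_le_comap.mpr (Ideal.map_le_iff_le_comap.mpr ?_))
    intro z hz
    rw [Ideal.mem_comap, Ideal.mem_comap]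
    obtain ⟨c, hc⟩ := hgenO z hz
    have h1 := hmemL _ 2 hc
    let j : O →+* L := (algebraMap (K ⊗[k] O) L).comp
      (Algebra.TensorProduct.includeRight : O →ₐ[k] K ⊗[k] O).toRingHom
    have h2 : j (z - ∑ i, algebraMap k O (c i) * x i) ∈ maximalIdeal L ^ 2 := h1
    have h3 : j z = ∑ i, j (algebraMap k O (c i)) * x' i +
        j (z - ∑ i, algebraMap k O (c i) * x i) := by
      rw [map_sub, map_sum]
      simp only [map_mul]
      have h4 : ∀ i, j (x i) = x' i := fun i => rfl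
      simp only [h4]
      ring
    change j z ∈ _
    rw [h3]
    refine add_mem (Ideal.mem_sup_left (Ideal.sum_mem _ fun i _ => Ideal.mul_mem_left _ _
      (Ideal.subset_span ⟨i, rfl⟩))) (Ideal.mem_sup_right h2)
  obtain ⟨g, hg, H⟩ := Groth.Agent.Vancyc.H678.P2.exists_ordQuadSeries hq' x' hx' hgen
  suffices H2 : ∃ a : Fin (n + 1) → Fin (n + 1) → k, (∃ c : K, c ≠ 0 ∧
        ∀ i j, i ≤ j → algebraMap k K (a i j) = c * quadPart g i j) ∧
      MvPolynomial.aeval x (quadPoly a) ∈ maximalIdeal O ^ 3 ∧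
      ∀ r, 3 ≤ r → ∀ f p : MvPolynomial (Fin (n + 1)) k,
        f - quadPoly a ∈ MvPolynomial.idealOfVars (Fin (n + 1)) k ^ 3 →
        MvPolynomial.aeval x f ∈ maximalIdeal O ^ r → MvPolynomial.aeval x p ∈ maximalIdeal O ^ r →
        ∃ s : MvPolynomial (Fin (n + 1)) k,
          p - s * f ∈ MvPolynomial.idealOfVars (Fin (n + 1)) k ^ r by
    obtain ⟨a, ⟨c, hc, hac⟩, ha⟩ := H2
    exact ⟨a, quadOrd_of_eq _ _ c hc hac hg.2, ha⟩
  refine exists_quad (K := K) x g hg.1 (exists_ne_zero_of_ord (Nat.succ_pos n) _ hg.2) ?_ ?_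
  · intro ℓ r p hp
    exact aeval_lc_mem (κ := κ) (L := L) hκ hκ' hs ℓ r x p ((H r p).mpr hp)
  · intro r p hp
    refine (H r _).mp ?_
    have h1 := hmemL _ r hp
    have h2 : (algebraMap (K ⊗[k] O) L).comp
        ((Algebra.TensorProduct.includeRight : O →ₐ[k] K ⊗[k] O).toRingHom.comp
          (MvPolynomial.aeval x : MvPolynomial (Fin (n + 1)) k →ₐ[k] O).toRingHom) =
        (MvPolynomial.aeval x' : MvPolynomial (Fin (n + 1)) K →ₐ[K] L).toRingHom.comp
          (MvPolynomial.map (algebraMap k K)) := by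
      refine MvPolynomial.ringHom_ext (fun c => ?_) fun i => ?_
      · change algebraMap (K ⊗[k] O) L (1 ⊗ₜ[k] (MvPolynomial.aeval x (MvPolynomial.C c))) =
          MvPolynomial.aeval x' (MvPolynomial.map (algebraMap k K) (MvPolynomial.C c))
        have h3 : (1 ⊗ₜ[k] (algebraMap k O c) : K ⊗[k] O) = algebraMap k K c ⊗ₜ[k] 1 :=
          (Algebra.TensorProduct.includeRight : O →ₐ[k] K ⊗[k] O).commutes c
        rw [MvPolynomial.map_C, MvPolynomial.algHom_C, MvPolynomial.algHom_C,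
          IsScalarTower.algebraMap_apply K (K ⊗[k] O) L,
          Algebra.TensorProduct.algebraMap_apply, Algebra.algebraMap_self_apply, h3]
      · change algebraMap (K ⊗[k] O) L (1 ⊗ₜ[k] (MvPolynomial.aeval x (MvPolynomial.X i))) =
          MvPolynomial.aeval x' (MvPolynomial.map (algebraMap k K) (MvPolynomial.X i))
        rw [MvPolynomial.map_X, MvPolynomial.aeval_X, MvPolynomial.aeval_X]
    have h3 := congr($h2 p)
    change algebraMap (K ⊗[k] O) L (1 ⊗ₜ[k] (MvPolynomial.aeval x p)) =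
      MvPolynomial.aeval x' (MvPolynomial.map (algebraMap k K) p) at h3
    rwa [h3] at h1

end K4.OrdFib
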