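import Groth.Agent.VanCyc.K4.Ser
import Mathlib.RingTheory.MvPowerSeries.Substitution
import Mathlib.RingTheory.Ideal.Quotient.Operations

/-!
# Substitutions `x ↦ x + h` in power series rings over an arbitrary ring

* `exists_fixed`: contracting maps on tuples of power series have fixed points;
* `subst_sub_mem`: difference estimates for substitutions;
* `bijective_subst`: `x ↦ x + h` is an automorphism if `h` has order at least two;
* `D`, `sum_X_mul_D`: division by the variables.
-/

set_option autoImplicit false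

namespace K4.Subst

open MvPowerSeries K4.Ser

section Fixed

variable {σ ι R : Type*} [CommRing R]

theorem exists_fixed (m : ℕ) (hm : 1 ≤ m) (Φ : (ι → MvPowerSeries σ R) → ι → MvPowerSeries σ R)
    (h1 : ∀ y, (∀ i, y i ∈ Fil σ R m) → ∀ i, Φ y i ∈ Fil σ R m)
    (h2 : ∀ s, m ≤ s → ∀ y z, (∀ i, y i ∈ Fil σ R m) → (∀ i, z i ∈ Fil σ R m) →
      (∀ i, y i - z i ∈ Fil σ R s) → ∀ i, Φ y i - Φ z i ∈ Fil σ R (s + 1)) :
    ∃ y : ι → MvPowerSeries σ R, (∀ i, y i ∈ Fil σ R m) ∧ Φ y = y := by
  let s : ℕ → ι → MvPowerSeries σ R := fun j => Φ^[j] 0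
  have hs : ∀ j, s (j + 1) = Φ (s j) := fun j => Function.iterate_succ_apply' _ _ _
  have hs2 : ∀ j i, s j i ∈ Fil σ R m := by
    intro j
    induction j with
    | zero => intro i; exact zero_mem _
    | succ j ih => rw [hs]; exact h1 _ ih
  have hsd : ∀ j i, s (j + 1) i - s j i ∈ Fil σ R (m + j) := by
    intro j
    induction j with
    | zero => intro i; exact Ideal.sub_mem _ (hs2 _ _) (hs2 _ _)
    | succ j ih =>
      intro i
      rw [hs (j + 1), hs j]
      exact h2 (m + j) (by omega) _ _ (by rw [← hs]; exact hs2 _) (hs2 _) (by rw [← hs]; exact ih) i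
  have hsd' : ∀ j p i, s (j + p) i - s j i ∈ Fil σ R (m + j) := by
    intro j p i
    induction p with
    | zero => simp
    | succ p ih =>
      have h1 : s (j + (p + 1)) i - s j i =
          (s (j + p + 1) i - s (j + p) i) + (s (j + p) i - s j i) := by
        rw [← add_assoc]; ring
      rw [h1]
      exact Ideal.add_mem _ (Fil_mono (by omega) (hsd _ _)) ih
  let y : ι → MvPowerSeries σ R := fun i d => coeff d (s d.degree i)
  have hyc : ∀ i d, coeff d (y i) = coeff d (s d.degree i) := fun i d => rfl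
  have hys : ∀ j i, y i - s j i ∈ Fil σ R (j + 1) := by
    intro j i
    rw [mem_Fil]
    intro d hd
    rw [map_sub, hyc]
    obtain ⟨p, hp⟩ := Nat.exists_eq_add_of_le (show d.degree ≤ j by omega)
    have h1 := hsd' d.degree p i
    rw [mem_Fil] at h1
    have h2 := h1 d (by omega)
    rw [← hp, map_sub] at h2
    rw [← neg_sub, h2, neg_zero]
  have hy2 : ∀ i, y i ∈ Fil σ R m := by
    intro i
    have := Ideal.add_mem _ (Fil_mono (show m ≤ m + 1 by omega) (hys m i)) (hs2 m i)
    simpa using this
  refine ⟨y, hy2, ?_⟩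
  funext i
  rw [← sub_eq_zero]
  ext d
  have h1 : Φ y i - y i ∈ Fil σ R (d.degree + 1) := by
    have h3 := h2 (max m (d.degree)) (le_max_left _ _) y (s (max m d.degree)) hy2 (hs2 _)
      (fun i => Fil_mono (by omega) (hys (max m d.degree) i)) i
    have h4 := hys (max m d.degree + 1) i
    rw [hs] at h4
    have h5 : Φ y i - y i = (Φ y i - Φ (s (max m d.degree)) i) -
      (y i - Φ (s (max m d.degree)) i) := by ring
    rw [h5]
    exact Ideal.sub_mem _ (Fil_mono (by omega) h3) (Fil_mono (by omega) h4)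
  rw [mem_Fil] at h1
  rw [h1 d (by omega), map_zero]

end Fixed

section Sub

variable {σ R : Type*} [CommRing R] [Finite σ]

theorem hasSubst {y : σ → MvPowerSeries σ R} (hy : ∀ i, y i ∈ Fil σ R 1) : HasSubst y :=
  hasSubst_of_constantCoeff_zero fun i => mem_Fil_one.1 (hy i)

theorem subst_mem_Fil {y : σ → MvPowerSeries σ R} (hy : ∀ i, y i ∈ Fil σ R 1) {k : ℕ}
    {f : MvPowerSeries σ R} (hf : f ∈ Fil σ R k) : subst y f ∈ Fil σ R k := by
  rw [mem_Fil'] at hf ⊢
  refine le_trans ?_ (le_order_subst (hasSubst hy) f)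
  have h1 : (1 : ℕ∞) ≤ ⨅ i, (y i).order := by
    refine le_iInf fun i => ?_
    have := hy i
    rw [mem_Fil'] at this
    exact_mod_cast this
  calc (k : ℕ∞) ≤ f.order := hf
    _ = 1 * f.order := (one_mul _).symm
    _ ≤ _ := mul_le_mul_left h1 _

/-- Substitutions are continuous in the substituted series. -/
theorem subst_sub_mem_zero {y z : σ → MvPowerSeries σ R} (hy : ∀ i, y i ∈ Fil σ R 1)
    (hz : ∀ i, z i ∈ Fil σ R 1) (s : ℕ) (hyz : ∀ i, y i - z i ∈ Fil σ R s)
    (f : MvPowerSeries σ R) : subst y f - subst z f ∈ Fil σ R s := by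
  have h1 := Groth.Agent.Ega41.MvPS.sub_truncTotal_mem s f
  rw [varIdeal_pow_eq] at h1
  set p := truncTotal s f with hp
  have h2 : subst y f = subst y (f - (p : MvPowerSeries σ R)) + subst y (p : MvPowerSeries σ R) := by
    rw [← subst_add (hasSubst hy), sub_add_cancel]
  have h3 : subst z f = subst z (f - (p : MvPowerSeries σ R)) + subst z (p : MvPowerSeries σ R) := by
    rw [← subst_add (hasSubst hz), sub_add_cancel]
  have h4 : subst y (p : MvPowerSeries σ R) - subst z (p : MvPowerSeries σ R) ∈ Fil σ R s := by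
    rw [subst_coe, subst_coe, ← Ideal.Quotient.eq]
    have h5 : (Ideal.Quotient.mkₐ R (Fil σ R s)).comp (MvPolynomial.aeval y) =
        (Ideal.Quotient.mkₐ R (Fil σ R s)).comp (MvPolynomial.aeval z) := by
      ext i
      simp only [AlgHom.comp_apply, MvPolynomial.aeval_X]
      exact Ideal.Quotient.eq.2 (hyz i)
    exact congr($h5 p)
  have h6 : subst y f - subst z f = subst y (f - (p : MvPowerSeries σ R)) -
      subst z (f - (p : MvPowerSeries σ R)) +
      (subst y (p : MvPowerSeries σ R) - subst z (p : MvPowerSeries σ R)) := by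
    rw [h2, h3]; ring
  rw [h6]
  exact Ideal.add_mem _ (Ideal.sub_mem _ (subst_mem_Fil hy h1) (subst_mem_Fil hz h1)) h4

end Sub

section Div

variable {A : Type*} [CommRing A] {n : ℕ}

/-- Division by `X i` of the part of `g` whose minimal variable is `i`. -/
noncomputable def D (i : Fin n) (g : MvPowerSeries (Fin n) A) : MvPowerSeries (Fin n) A :=
  fun m => if ∀ j < i, m j = 0 then coeff (m + Finsupp.single i 1) g else 0

theorem coeff_D (i : Fin n) (g : MvPowerSeries (Fin n) A) (m : Fin n →₀ ℕ) :
    coeff m (D i g) = if ∀ j < i, m j = 0 then coeff (m + Finsupp.single i 1) g else 0 := rfl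

theorem D_sub (i : Fin n) (g h : MvPowerSeries (Fin n) A) : D i (g - h) = D i g - D i h := by
  ext m
  rw [map_sub, coeff_D, coeff_D, coeff_D]
  split_ifs <;> simp

theorem D_mem_Fil {i : Fin n} {g : MvPowerSeries (Fin n) A} {N : ℕ}
    (hg : g ∈ Fil (Fin n) A (N + 1)) : D i g ∈ Fil (Fin n) A N := by
  rw [mem_Fil] at *
  intro d hd
  rw [coeff_D]
  split_ifs
  · apply hg
    rw [map_add, Finsupp.degree_single]
    omega
  · rfl

theorem sum_X_mul_D {g : MvPowerSeries (Fin n) A} (hg : constantCoeff g = 0) :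
    ∑ i, X i * D i g = g := by
  classical
  ext m
  rw [map_sum]
  have h1 : ∀ i, coeff m (X i * D i g) = if (m i ≠ 0 ∧ ∀ j < i, m j = 0) then coeff m g else 0 := by
    intro i
    rw [X_def, coeff_monomial_mul, coeff_D]
    have h2 : (Finsupp.single i 1 ≤ m) ↔ m i ≠ 0 := by
      rw [Finsupp.single_le_iff]; omega
    by_cases h3 : m i = 0
    · simp [h2, h3]
    · rw [if_pos (h2.mpr h3), one_mul, tsub_add_cancel_of_le (h2.mpr h3)]
      have h4 : (∀ j < i, (m - Finsupp.single i 1 : Fin n →₀ ℕ) j = 0) ↔ (∀ j < i, m j = 0) := by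
        apply forall₂_congr
        intro j hj
        rw [Finsupp.tsub_apply, Finsupp.single_eq_of_ne (by exact hj.ne)]
        simp
      simp only [h4, h3, ne_eq, not_false_eq_true, true_and]
  simp only [h1]
  by_cases hm : m = 0
  · subst hm
    simpa using hg.symm
  · have hs : m.support.Nonempty := Finsupp.support_nonempty_iff.mpr hm
    rw [Finset.sum_eq_single (m.support.min' hs)]
    · rw [if_pos]
      refine ⟨Finsupp.mem_support_iff.mp (Finset.min'_mem _ _), ?_⟩
      intro j hj
      by_contra hc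
      exact absurd (Finset.min'_le _ j (Finsupp.mem_support_iff.mpr hc)) (not_le.mpr hj)
    · intro b _ hb
      rw [if_neg]
      rintro ⟨h5, h6⟩
      apply hb
      apply le_antisymm
      · by_contra hc
        push Not at hc
        exact (Finsupp.mem_support_iff.mp (Finset.min'_mem m.support hs)) (h6 _ hc)
      · exact Finset.min'_le _ b (Finsupp.mem_support_iff.mpr h5)
    · intro h; simp at h

theorem X_mem_Fil (i : Fin n) : (X i : MvPowerSeries (Fin n) A) ∈ Fil (Fin n) A 1 := by
  rw [mem_Fil_one]; simp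

/-- Difference estimates for substitutions. -/
theorem subst_sub_mem {y z : Fin n → MvPowerSeries (Fin n) A} (hy : ∀ i, y i ∈ Fil (Fin n) A 1)
    (hz : ∀ i, z i ∈ Fil (Fin n) A 1) (s : ℕ) (hyz : ∀ i, y i - z i ∈ Fil (Fin n) A s)
    (k : ℕ) {f : MvPowerSeries (Fin n) A} (hf : f ∈ Fil (Fin n) A (k + 1)) :
    subst y f - subst z f ∈ Fil (Fin n) A (s + k) := by
  induction k generalizing f with
  | zero => exact subst_sub_mem_zero hy hz s hyz f
  | succ k ih =>
    have h0 : constantCoeff f = 0 := mem_Fil_one.1 (Fil_mono (by omega) hf)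
    have h1 : ∀ w : Fin n → MvPowerSeries (Fin n) A, (∀ i, w i ∈ Fil (Fin n) A 1) →
        subst w f = ∑ i, w i * subst w (D i f) := by
      intro w hw
      conv_lhs => rw [← sum_X_mul_D h0]
      rw [← coe_substAlgHom (hasSubst hw), map_sum]
      refine Finset.sum_congr rfl fun i _ => ?_
      rw [map_mul, substAlgHom_X]
    rw [h1 y hy, h1 z hz, ← Finset.sum_sub_distrib]
    refine Ideal.sum_mem _ fun i _ => ?_
    have h2 : y i * subst y (D i f) - z i * subst z (D i f) =
        (y i - z i) * subst y (D i f) + z i * (subst y (D i f) - subst z (D i f)) := by ring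
    rw [h2]
    refine Ideal.add_mem _ ?_ ?_
    · exact mul_mem_Fil (hyz i) (subst_mem_Fil hy (D_mem_Fil hf))
    · have h3 := mul_mem_Fil (hz i) (ih (D_mem_Fil (i := i) hf))
      exact Fil_mono (by omega) h3

/-- `x ↦ x + h` has a left inverse of the same kind. -/
theorem exists_left_inv (h : Fin n → MvPowerSeries (Fin n) A) (hh : ∀ i, h i ∈ Fil (Fin n) A 2) :
    ∃ k : Fin n → MvPowerSeries (Fin n) A, (∀ i, k i ∈ Fil (Fin n) A 2) ∧
      ∀ f : MvPowerSeries (Fin n) A, subst (fun i => X i + k i) (subst (fun i => X i + h i) f) = f := by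
  have hX : ∀ k : Fin n → MvPowerSeries (Fin n) A, (∀ i, k i ∈ Fil (Fin n) A 2) →
      ∀ i, X i + k i ∈ Fil (Fin n) A 1 := fun k hk i =>
    Ideal.add_mem _ (X_mem_Fil i) (Fil_mono (by norm_num) (hk i))
  obtain ⟨k, hk, hfix⟩ := exists_fixed 2 (by norm_num)
    (fun (k : Fin n → MvPowerSeries (Fin n) A) i => - subst (fun j => X j + k j) (h i))
    (fun y hy i => neg_mem (subst_mem_Fil (hX y hy) (hh i)))
    (fun s hs y z hy hz hyz i => by
      have := subst_sub_mem (hX y hy) (hX z hz) s (fun i => by simpa using hyz i) 1 (hh i)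
      have h2 : -subst (fun j => X j + y j) (h i) - -subst (fun j => X j + z j) (h i) =
          -(subst (fun j => X j + y j) (h i) - subst (fun j => X j + z j) (h i)) := by ring
      rw [h2]
      exact neg_mem this)
  refine ⟨k, hk, fun f => ?_⟩
  rw [subst_comp_subst_apply (hasSubst (hX h hh)) (hasSubst (hX k hk))]
  have h3 : (fun i => subst (fun i => X i + k i) (X i + h i)) =
      (X : Fin n → MvPowerSeries (Fin n) A) := by
    funext i
    rw [subst_add (hasSubst (hX k hk)), subst_X (hasSubst (hX k hk))]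
    have h4 := congr_fun hfix i
    have h5 : subst (fun j => X j + k j) (h i) = - k i := by rw [← h4, neg_neg]
    rw [h5]; ring
  rw [h3, subst_self]
  rfl

/-- `x ↦ x + h` is an automorphism if `h` has order at least two. -/
theorem bijective_subst (h : Fin n → MvPowerSeries (Fin n) A) (hh : ∀ i, h i ∈ Fil (Fin n) A 2) :
    Function.Bijective (fun f : MvPowerSeries (Fin n) A => subst (fun i => X i + h i) f) := by
  obtain ⟨k, hk, hkh⟩ := exists_left_inv h hh
  obtain ⟨l, hl, hlk⟩ := exists_left_inv k hk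
  have hinj : Function.Injective (fun f : MvPowerSeries (Fin n) A => subst (fun i => X i + k i) f) :=
    fun f g hfg => by rw [← hlk f, ← hlk g]; exact congrArg _ hfg
  refine ⟨fun f g hfg => ?_, fun f => ⟨subst (fun i => X i + k i) f, ?_⟩⟩
  · rw [← hkh f, ← hkh g]; exact congrArg _ hfg
  · apply hinj
    change subst (fun i => X i + k i) (subst (fun i => X i + h i) (subst (fun i => X i + k i) f)) = _
    rw [hkh]

end Div

end K4.Subst
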