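import Groth.Agent.VanCyc.K4.MorseAny
import Groth.Agent.UnramA.PowerSeriesComplete
import Groth.Agent.CurvesB.SeriesEval

/-!
# Translations of power series over a complete ring

`m` an ideal of `A` with `A` `m`-adically complete.  For `t ∈ m ^ n` the translation `x ↦ x + t` is an automorphism
`tau` of `A[[x_1, …, x_n]]`.
-/

set_option autoImplicit false

universe u

namespace K4.Transl

open MvPowerSeries K4.Ser K4.Subst
open Groth.Agent.UnramA.PowerSeriesComplete (M mem_M_pow_iff isAdicComplete_mvPowerSeries)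
open Groth.Agent.CurvesB.SeriesEval (eval eval_C eval_X eval_coe)

section Fixed

variable {A : Type*} [CommRing A] (m : Ideal A) [IsAdicComplete m A] {ι : Type*}

theorem exists_fixed_adic (Φ : (ι → A) → ι → A)
    (h1 : ∀ t, (∀ i, t i ∈ m) → ∀ i, Φ t i ∈ m)
    (h2 : ∀ s, 1 ≤ s → ∀ t t', (∀ i, t i ∈ m) → (∀ i, t' i ∈ m) → (∀ i, t i - t' i ∈ m ^ s) →
      ∀ i, Φ t i - Φ t' i ∈ m ^ (s + 1)) :
    ∃ t : ι → A, (∀ i, t i ∈ m) ∧ Φ t = t := by
  let s : ℕ → ι → A := fun j => Φ^[j] 0
  have hs : ∀ j, s (j + 1) = Φ (s j) := fun j => Function.iterate_succ_apply' _ _ _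
  have hs2 : ∀ j i, s j i ∈ m := by
    intro j
    induction j with
    | zero => intro i; exact zero_mem _
    | succ j ih => rw [hs]; exact h1 _ ih
  have hsd : ∀ j i, s (j + 1) i - s j i ∈ m ^ (j + 1) := by
    intro j
    induction j with
    | zero => intro i; rw [zero_add, pow_one]; exact Ideal.sub_mem _ (hs2 _ _) (hs2 _ _)
    | succ j ih =>
      intro i
      rw [hs (j + 1), hs j]
      exact h2 (j + 1) (by omega) _ _ (by rw [← hs]; exact hs2 _) (hs2 _) (by rw [← hs]; exact ih) i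
  have hsd' : ∀ j p i, s (j + p) i - s j i ∈ m ^ (j + 1) := by
    intro j p i
    induction p with
    | zero => simp
    | succ p ih =>
      have h1 : s (j + (p + 1)) i - s j i =
          (s (j + p + 1) i - s (j + p) i) + (s (j + p) i - s j i) := by
        rw [← add_assoc]; ring
      rw [h1]
      exact Ideal.add_mem _ (Ideal.pow_le_pow_right (by omega) (hsd _ _)) ih
  have hL : ∀ i, ∃ L : A, ∀ j, s j i - L ∈ m ^ j := by
    intro i
    obtain ⟨L, hL⟩ := IsPrecomplete.prec (I := m) inferInstance (f := fun j => s j i) (by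
      intro a b hab
      obtain ⟨p, rfl⟩ := Nat.exists_eq_add_of_le hab
      rw [SModEq.sub_mem, smul_eq_mul, Ideal.mul_top, ← neg_sub]
      exact neg_mem (Ideal.pow_le_pow_right (by omega) (hsd' a p i)))
    refine ⟨L, fun j => ?_⟩
    have := hL j
    rwa [SModEq.sub_mem, smul_eq_mul, Ideal.mul_top] at this
  choose L hL using hL
  have hLm : ∀ i, L i ∈ m := by
    intro i
    have h3 := hL i 1
    rw [pow_one] at h3
    have h4 := Ideal.sub_mem _ (hs2 1 i) h3
    simpa using h4
  refine ⟨L, hLm, ?_⟩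
  funext i
  rw [← sub_eq_zero]
  refine IsHausdorff.haus (I := m) inferInstance _ fun j => ?_
  rw [SModEq.zero, smul_eq_mul, Ideal.mul_top]
  have h3 := h2 (j + 1) (by omega) L (s (j + 1)) hLm (hs2 _) (fun i => by
    rw [← neg_sub]; exact neg_mem (hL i (j + 1))) i
  rw [← hs] at h3
  have h4 := hL i (j + 1 + 1)
  have h5 : Φ L i - L i = (Φ L i - s (j + 1 + 1) i) + (s (j + 1 + 1) i - L i) := by ring
  rw [h5]
  exact Ideal.add_mem _ (Ideal.pow_le_pow_right (by omega) h3)
    (Ideal.pow_le_pow_right (by omega) h4)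

end Fixed

section Tau

variable {A : Type u} [CommRing A] (m : Ideal A) {n : ℕ}

theorem C_mem {a : A} {k : ℕ} (ha : a ∈ m ^ k) : (C a : MvPowerSeries (Fin n) A) ∈ M m (Fin n) ^ k := by
  have h1 : (C a : MvPowerSeries (Fin n) A) ∈ (m.map (C (σ := Fin n))) ^ k := by
    rw [← Ideal.map_pow]
    exact Ideal.mem_map_of_mem _ ha
  exact Ideal.pow_right_mono le_sup_left _ h1

theorem Fil_le (k : ℕ) : Fil (Fin n) A k ≤ M m (Fin n) ^ k := by
  rw [← varIdeal_pow_eq]
  exact Ideal.pow_right_mono le_sup_right k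

theorem X_mem (i : Fin n) : (X i : MvPowerSeries (Fin n) A) ∈ M m (Fin n) :=
  (le_sup_right : _ ≤ M m (Fin n)) (Ideal.subset_span ⟨i, rfl⟩)

theorem X_add_mem {t : Fin n → A} (ht : ∀ i, t i ∈ m) (i : Fin n) :
    (X i + C (t i) : MvPowerSeries (Fin n) A) ∈ M m (Fin n) := by
  have := C_mem (n := n) m (k := 1) (by rw [pow_one]; exact ht i)
  rw [pow_one] at this
  exact Ideal.add_mem _ (X_mem m i) this

variable [IsAdicComplete m A]

/-- The translation `x ↦ x + t`. -/
noncomputable def tau (t : Fin n → A) (ht : ∀ i, t i ∈ m) :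
    MvPowerSeries (Fin n) A →+* MvPowerSeries (Fin n) A :=
  haveI := isAdicComplete_mvPowerSeries (σ := Fin n) m
  eval (M m (Fin n)) C (fun i => X i + C (t i)) (X_add_mem m ht)

variable (t : Fin n → A) (ht : ∀ i, t i ∈ m)

theorem tau_C (a : A) : tau m t ht (C a) = C a := by
  have := isAdicComplete_mvPowerSeries (σ := Fin n) m
  exact eval_C (M m (Fin n)) C (fun i => X i + C (t i)) (X_add_mem m ht) a

theorem tau_X (i : Fin n) : tau m t ht (X i) = X i + C (t i) := by
  have := isAdicComplete_mvPowerSeries (σ := Fin n) m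
  exact eval_X (M m (Fin n)) C (fun i => X i + C (t i)) (X_add_mem m ht) i

theorem tau_coe (p : MvPolynomial (Fin n) A) :
    tau m t ht (p : MvPowerSeries (Fin n) A) =
      MvPolynomial.aeval (fun i => (X i + C (t i) : MvPowerSeries (Fin n) A)) p := by
  have := isAdicComplete_mvPowerSeries (σ := Fin n) m
  exact eval_coe (M m (Fin n)) C (fun i => X i + C (t i)) (X_add_mem m ht) p

theorem tau_mem {k : ℕ} {f : MvPowerSeries (Fin n) A} (hf : f ∈ M m (Fin n) ^ k) :
    tau m t ht f ∈ M m (Fin n) ^ k := by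
  have h1 : (M m (Fin n)).map (tau m t ht) ≤ M m (Fin n) := by
    rw [M, Ideal.map_sup]
    refine sup_le ?_ ?_
    · rw [Ideal.map_map]
      refine le_trans (le_of_eq ?_) le_sup_left
      congr 1
      ext a : 1
      exact tau_C m t ht a
    · rw [Ideal.map_span, Ideal.span_le]
      rintro _ ⟨_, ⟨i, rfl⟩, rfl⟩
      rw [SetLike.mem_coe, tau_X]
      exact X_add_mem m ht i
  have h2 := Ideal.mem_map_of_mem (tau m t ht) hf
  rw [Ideal.map_pow] at h2
  exact Ideal.pow_right_mono h1 k h2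

theorem tau_mem_of_Fil {k : ℕ} {f : MvPowerSeries (Fin n) A} (hf : f ∈ Fil (Fin n) A k) :
    tau m t ht f ∈ M m (Fin n) ^ k := tau_mem m t ht (Fil_le m k hf)

theorem trunc_sub_mem (s : ℕ) (f : MvPowerSeries (Fin n) A) :
    f - ((truncTotal s f : MvPolynomial (Fin n) A) : MvPowerSeries (Fin n) A) ∈
      Fil (Fin n) A s := by
  have h1 := Groth.Agent.Ega41.MvPS.sub_truncTotal_mem s f
  rwa [varIdeal_pow_eq] at h1

variable (t' : Fin n → A) (ht' : ∀ i, t' i ∈ m)

theorem tau_sub_mem_zero (s : ℕ) (h : ∀ i, t i - t' i ∈ m ^ s) (f : MvPowerSeries (Fin n) A) :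
    tau m t ht f - tau m t' ht' f ∈ M m (Fin n) ^ s := by
  set p := truncTotal s f with hp
  have h1 := trunc_sub_mem s f
  rw [← hp] at h1
  have h4 : tau m t ht (p : MvPowerSeries (Fin n) A) - tau m t' ht' (p : MvPowerSeries (Fin n) A) ∈
      M m (Fin n) ^ s := by
    rw [tau_coe, tau_coe, ← Ideal.Quotient.eq]
    have h5 : (Ideal.Quotient.mkₐ A (M m (Fin n) ^ s)).comp
        (MvPolynomial.aeval (fun i => (X i + C (t i) : MvPowerSeries (Fin n) A))) =
        (Ideal.Quotient.mkₐ A (M m (Fin n) ^ s)).comp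
          (MvPolynomial.aeval (fun i => (X i + C (t' i) : MvPowerSeries (Fin n) A))) := by
      ext i
      simp only [AlgHom.comp_apply, MvPolynomial.aeval_X]
      refine Ideal.Quotient.eq.2 ?_
      have h6 : (X i + C (t i) : MvPowerSeries (Fin n) A) - (X i + C (t' i)) = C (t i - t' i) := by
        rw [map_sub]; ring
      rw [h6]
      exact C_mem m (h i)
    exact congr($h5 p)
  have h6 : tau m t ht f - tau m t' ht' f = tau m t ht (f - (p : MvPowerSeries (Fin n) A)) -
      tau m t' ht' (f - (p : MvPowerSeries (Fin n) A)) +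
      (tau m t ht (p : MvPowerSeries (Fin n) A) - tau m t' ht' (p : MvPowerSeries (Fin n) A)) := by
    rw [map_sub, map_sub]; ring
  rw [h6]
  exact Ideal.add_mem _ (Ideal.sub_mem _ (tau_mem_of_Fil m t ht h1) (tau_mem_of_Fil m t' ht' h1)) h4

theorem tau_sub_mem (s : ℕ) (h : ∀ i, t i - t' i ∈ m ^ s) (k : ℕ) {f : MvPowerSeries (Fin n) A}
    (hf : f ∈ Fil (Fin n) A (k + 1)) :
    tau m t ht f - tau m t' ht' f ∈ M m (Fin n) ^ (s + k) := by
  induction k generalizing f with
  | zero => exact tau_sub_mem_zero m t ht t' ht' s h f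
  | succ k ih =>
    have h0 : constantCoeff f = 0 := mem_Fil_one.1 (Fil_mono (by omega) hf)
    have h1 : ∀ (w : Fin n → A) (hw : ∀ i, w i ∈ m),
        tau m w hw f = ∑ i, (X i + C (w i)) * tau m w hw (D i f) := by
      intro w hw
      conv_lhs => rw [← sum_X_mul_D h0]
      rw [map_sum]
      refine Finset.sum_congr rfl fun i _ => ?_
      rw [map_mul, tau_X]
    rw [h1 t ht, h1 t' ht', ← Finset.sum_sub_distrib]
    refine Ideal.sum_mem _ fun i _ => ?_
    have h2 : (X i + C (t i)) * tau m t ht (D i f) - (X i + C (t' i)) * tau m t' ht' (D i f) =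
        C (t i - t' i) * tau m t ht (D i f) +
          (X i + C (t' i)) * (tau m t ht (D i f) - tau m t' ht' (D i f)) := by
      rw [map_sub]; ring
    rw [h2]
    refine Ideal.add_mem _ ?_ ?_
    · rw [pow_add]
      exact Ideal.mul_mem_mul (C_mem m (h i)) (tau_mem_of_Fil m t ht (D_mem_Fil hf))
    · have h3 := Ideal.mul_mem_mul (X_add_mem m ht' i) (ih (D_mem_Fil (i := i) hf))
      rw [← pow_succ'] at h3
      exact h3

/-- A continuous endomorphism fixing constants and variables is the identity. -/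
theorem eq_id (φ : MvPowerSeries (Fin n) A →+* MvPowerSeries (Fin n) A)
    (hC : ∀ a, φ (C a) = C a) (hX : ∀ i, φ (X i) = X i) (f : MvPowerSeries (Fin n) A) : φ f = f := by
  have h1 : ∀ p : MvPolynomial (Fin n) A, φ (p : MvPowerSeries (Fin n) A) = p := by
    intro p
    have h2 : φ.comp (MvPolynomial.coeToMvPowerSeries.ringHom (σ := Fin n) (R := A)) =
        MvPolynomial.coeToMvPowerSeries.ringHom := by
      apply MvPolynomial.ringHom_ext
      · intro a; simp [hC]
      · intro i; simp [hX]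
    exact congr($h2 p)
  have h3 : ∀ s, ∀ g ∈ Fil (Fin n) A s, φ g ∈ Fil (Fin n) A s := by
    intro s g hg
    rw [← varIdeal_pow_eq] at hg ⊢
    have h4 := Ideal.mem_map_of_mem φ hg
    rw [Ideal.map_pow] at h4
    refine Ideal.pow_right_mono ?_ s h4
    rw [Groth.Agent.Ega41.MvPS.varIdeal, Ideal.map_span, Ideal.span_le]
    rintro _ ⟨_, ⟨i, rfl⟩, rfl⟩
    rw [SetLike.mem_coe, hX]
    exact Ideal.subset_span ⟨i, rfl⟩
  rw [← sub_eq_zero]
  ext d
  have h4 := trunc_sub_mem (d.degree + 1) f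
  have h5 : φ f - f = φ (f - ((truncTotal (d.degree + 1) f : MvPolynomial (Fin n) A) :
      MvPowerSeries (Fin n) A)) - (f - ((truncTotal (d.degree + 1) f : MvPolynomial (Fin n) A) :
      MvPowerSeries (Fin n) A)) := by
    rw [map_sub, h1]; ring
  rw [h5]
  have h6 := Ideal.sub_mem _ (h3 _ _ h4) h4
  rw [mem_Fil.1 h6 d (by omega), map_zero]

theorem tau_tau_neg (f : MvPowerSeries (Fin n) A) :
    tau m (-t) (fun i => neg_mem (ht i)) (tau m t ht f) = f := by
  refine eq_id ((tau m (-t) (fun i => neg_mem (ht i))).comp (tau m t ht)) ?_ ?_ f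
  · intro a; rw [RingHom.comp_apply, tau_C, tau_C]
  · intro i; rw [RingHom.comp_apply, tau_X, map_add, tau_C, tau_X]; simp

theorem tau_neg_tau (f : MvPowerSeries (Fin n) A) :
    tau m t ht (tau m (-t) (fun i => neg_mem (ht i)) f) = f := by
  refine eq_id ((tau m t ht).comp (tau m (-t) (fun i => neg_mem (ht i)))) ?_ ?_ f
  · intro a; rw [RingHom.comp_apply, tau_C, tau_C]
  · intro i; rw [RingHom.comp_apply, tau_X, map_add, tau_C, tau_X]; simp

/-- Translations as automorphisms. -/
noncomputable def tauEquiv : MvPowerSeries (Fin n) A ≃ₐ[A] MvPowerSeries (Fin n) A :=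
  AlgEquiv.ofRingEquiv (f := RingEquiv.ofRingHom (tau m t ht) (tau m (-t) (fun i => neg_mem (ht i)))
    (RingHom.ext (tau_neg_tau m t ht)) (RingHom.ext (tau_tau_neg m t ht)))
    (fun a => tau_C m t ht a)

theorem tauEquiv_apply (f : MvPowerSeries (Fin n) A) : tauEquiv m t ht f = tau m t ht f := rfl

end Tau

end K4.Transl
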