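import Groth.Agent.VanCyc.K4.HensTrans
import Groth.Agent.Vancyc.H690.Morse
import Groth.Agent.Vancyc.H159.FiniteQuot

/-!
# Weierstrass preparation in degree two in `A{t}`
-/

set_option autoImplicit false
universe u v

namespace K4.Weier

open IsLocalRing Groth.Agent.Vancyc.H690.HensFree Groth.Agent.Vancyc.H690.InvFun
  Groth.Agent.Vancyc.H690.Trunc Groth.Agent.Vancyc.H696.Coord Groth.Agent.Vancyc.H696.Univ

/-- The two descriptions of `A{t}` agree. -/
theorem exists_coord {A R : Type u} [CommRing A] [IsLocalRing A] [CommRing R] [Algebra A R]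
    {ι : Type} {x : ι → R} (h : IsHensFree A R x) :
    ∃ (H : Type u) (_ : CommRing H) (_ : Algebra A H) (π : H →+* ResidueField A) (y : ι → H)
      (e : R ≃ₐ[A] H), IsCoord A π y ∧ (∀ p, π (MvPolynomial.aeval y p) =
        residue A (MvPolynomial.constantCoeff p)) ∧ ∀ i, e (x i) = y i := by
  have h1 := h.henselian
  have h2 := h.isLocalHom
  obtain ⟨H, _, _, π, y, hc, hπ⟩ := exists_isCoord A (ResidueField A) (ι := ι)
    ((residue A).comp MvPolynomial.constantCoeff)
  have hπ' : ∀ p, π (MvPolynomial.aeval y p) = residue A (MvPolynomial.constantCoeff p) := hπ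
  have hH : HenselianLocalRing H := hc.henselianLocalRing
  have hπA : ∀ a, π (algebraMap A H a) = residue A a := by
    intro a
    have := hπ' (MvPolynomial.C a)
    rwa [MvPolynomial.algHom_C, MvPolynomial.constantCoeff_C] at this
  have hπy : ∀ i, π (y i) = 0 := by
    intro i
    have := hπ' (MvPolynomial.X i)
    rwa [MvPolynomial.aeval_X, MvPolynomial.constantCoeff_X, map_zero] at this
  have hAH : IsLocalHom (algebraMap A H) := by
    refine ⟨fun a ha => ?_⟩
    have h3 := ha.map π
    rw [hπA] at h3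
    exact (isUnit_map_iff (residue A) a).mp h3
  have hym : ∀ i, y i ∈ maximalIdeal H := fun i => by
    rw [hc.mem_maximalIdeal_iff]
    exact hπy i
  let e₁ : R →ₐ[A] H := h.lift y hym
  have he₁ : ∀ i, e₁ (x i) = y i := fun i => h.lift_apply _ _ _
  let τ : ResidueField A →+* ResidueField R := ResidueField.map (algebraMap A R)
  have hτ : ∀ a, τ (residue A a) = residue R (algebraMap A R a) := fun a => rfl
  obtain ⟨e₂, ⟨he₂, he₂'⟩, -⟩ := hc.existsUnique (T := R) τ x (fun a => by rw [hπA, hτ])
    (fun i => by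
      rw [hπy, map_zero]
      exact ((residue_eq_zero_iff _).mpr (h.mem_maximalIdeal i)).symm)
  have h21 : e₂.comp e₁ = AlgHom.id A R := by
    refine h.hom_ext (fun i => ?_) fun i => ?_
    · rw [AlgHom.comp_apply, he₁, he₂]
      exact h.mem_maximalIdeal i
    · rw [AlgHom.comp_apply, he₁, he₂, AlgHom.id_apply]
  have hπs : Function.Surjective π := by
    intro c
    obtain ⟨a, rfl⟩ := residue_surjective c
    exact ⟨_, hπA a⟩
  have h12 : e₁.comp e₂ = AlgHom.id A H := by
    refine coord_hom_ext hc π hπs (RingHom.id _) _ _ (fun i => ?_) (fun s => ?_) (fun s => rfl)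
    · rw [AlgHom.comp_apply, he₂, he₁, AlgHom.id_apply]
    · obtain ⟨a, ha⟩ := residue_surjective (π s)
      have h4 : e₂ s - algebraMap A R a ∈ maximalIdeal R := by
        rw [← residue_eq_zero_iff, map_sub, he₂', ← ha, hτ, sub_self]
      have h5 := h.map_maximalIdeal_le e₁ (fun i => by rw [he₁]; exact hym i)
        (Ideal.mem_map_of_mem _ h4)
      rw [hc.mem_maximalIdeal_iff] at h5
      have h6 : (e₁ : R →+* H) (e₂ s - algebraMap A R a) = e₁ (e₂ s) - algebraMap A H a := by
        rw [← e₁.commutes]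
        exact map_sub e₁ _ _
      rw [h6, map_sub, sub_eq_zero, hπA, ha] at h5
      exact h5
  exact ⟨H, inferInstance, inferInstance, π, y, AlgEquiv.ofAlgHom e₁ e₂ h12 h21, hc, hπ', he₁⟩

/-- Finiteness of `A{t}/(g)`. -/
theorem finite_quotient {A R : Type u} [CommRing A] [HenselianLocalRing A] [CommRing R]
    [Algebra A R] {t : R} (h : IsHensFree A R (fun _ : Unit => t)) (g : R) (hg : ¬ IsUnit g)
    (hg' : g ∉ (maximalIdeal A).map (algebraMap A R)) :
    Module.Finite A (R ⧸ Ideal.span {g}) := by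
  obtain ⟨H, _, _, π, y, e, hc, hπ, he⟩ := exists_coord h
  have hH : HenselianLocalRing H := hc.henselianLocalRing
  have hy : y = fun _ : Unit => y () := by
    funext i
    rfl
  have hπA : ∀ a, π (algebraMap A H a) = residue A a := by
    intro a
    have := hπ (MvPolynomial.C a)
    rwa [MvPolynomial.algHom_C, MvPolynomial.constantCoeff_C] at this
  rw [hy] at hc
  have hfin : Module.Finite A (H ⧸ Ideal.span {e g}) := by
    refine Groth.Agent.Vancyc.H159.FiniteQuot.finite_quotient A hc ?_ ?_ ?_ (e g) ?_ ?_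
    · intro a ha
      rw [hπA]
      exact (residue_eq_zero_iff a).mpr ha
    · intro c
      obtain ⟨a, rfl⟩ := residue_surjective c
      refine ⟨Polynomial.X - Polynomial.C a, Polynomial.monic_X_sub_C a, ?_⟩
      rw [Polynomial.eval₂_sub, Polynomial.eval₂_X, Polynomial.eval₂_C, RingHom.comp_apply, hπA,
        sub_self]
    · intro c
      obtain ⟨a, rfl⟩ := residue_surjective c
      refine ⟨MvPolynomial.C a, ?_⟩
      change π (MvPolynomial.aeval _ (MvPolynomial.C a)) = _
      rw [MvPolynomial.algHom_C, hπA]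
    · intro h1
      apply hg'
      have h2 := Ideal.mem_map_of_mem (e.symm : H →+* R) h1
      rw [Ideal.map_map, show ((e.symm : H →+* R)).comp (algebraMap A H) = algebraMap A R from
        RingHom.ext fun a => e.symm.commutes a] at h2
      simpa using h2
    · rw [← hc.mem_maximalIdeal_iff]
      intro hu
      apply hg
      simpa using hu.map e.symm
  have hmap : Ideal.span {e g} = (Ideal.span {g}).map (e : R →+* H) := by
    rw [Ideal.map_span, Set.image_singleton]
    rfl
  exact Module.Finite.equiv (Ideal.quotientEquivAlg (Ideal.span {g}) (Ideal.span {e g}) e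
    hmap).symm.toLinearEquiv

section Main

variable {A R : Type u} [CommRing A] [IsLocalRing A] [CommRing R] [IsLocalRing R] [Algebra A R]
  {t : R}

theorem exists_const {ι : Type v} {x : ι → R} (h : IsHensFree A R x) (r : R) :
    ∃ a : A, r - algebraMap A R a ∈ maximalIdeal R := by
  obtain ⟨π, hπx, hπ⟩ := exists_closedPoint h
  obtain ⟨c, hc⟩ := residue_surjective (π r)
  refine ⟨c, ?_⟩
  rw [IsLocalRing.mem_maximalIdeal, mem_nonunits_iff, ← hπ, map_sub, AlgHom.commutes, sub_eq_zero]
  exact hc.symm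

/-- Coefficients of `1` and `t`. -/
theorem mem_of_lin (h : IsHensFree A R (fun _ : Unit => t)) (a b : A)
    (hab : algebraMap A R a + algebraMap A R b * t ∈
      (maximalIdeal A).map (algebraMap A R) ⊔ maximalIdeal R ^ 2) :
    a ∈ maximalIdeal A ∧ b ∈ maximalIdeal A := by
  have h1 : algebraMap A R a + algebraMap A R b * t =
      MvPolynomial.aeval (fun _ : Unit => t)
        (MvPolynomial.C a + MvPolynomial.C b * MvPolynomial.X ()) := by
    rw [map_add, map_mul, MvPolynomial.algHom_C, MvPolynomial.algHom_C, MvPolynomial.aeval_X]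
  rw [h1, aeval_mem_iff h, MvPolynomial.mem_pow_idealOfVars_iff'] at hab
  have h2 := hab 0 (by simp)
  have h3 := hab (Finsupp.single () 1) (by rw [Finsupp.degree_single]; norm_num)
  rw [map_add, map_mul, MvPolynomial.map_C, MvPolynomial.map_C, MvPolynomial.map_X,
    MvPolynomial.coeff_add, MvPolynomial.coeff_C_mul, MvPolynomial.coeff_C] at h2 h3
  rw [if_pos rfl, MvPolynomial.coeff_zero_X, mul_zero, add_zero] at h2
  rw [MvPolynomial.coeff_X, if_pos rfl, mul_one] at h3
  rw [if_neg (by
    intro e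
    have := congr($e ())
    simp at this), zero_add] at h3
  exact ⟨(residue_eq_zero_iff a).mp h2, (residue_eq_zero_iff b).mp h3⟩

/-- Coefficient of `t ^ 2`. -/
theorem mem_of_sq (h : IsHensFree A R (fun _ : Unit => t)) (a : A)
    (ha : algebraMap A R a * t ^ 2 ∈
      (maximalIdeal A).map (algebraMap A R) ⊔ maximalIdeal R ^ 3) : a ∈ maximalIdeal A := by
  have h1 : algebraMap A R a * t ^ 2 =
      MvPolynomial.aeval (fun _ : Unit => t) (MvPolynomial.C a * MvPolynomial.X () ^ 2) := by
    rw [map_mul, map_pow, MvPolynomial.algHom_C, MvPolynomial.aeval_X]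
  rw [h1, aeval_mem_iff h, MvPolynomial.mem_pow_idealOfVars_iff'] at ha
  have h3 := ha (Finsupp.single () 2) (by rw [Finsupp.degree_single]; norm_num)
  rw [map_mul, map_pow, MvPolynomial.map_C, MvPolynomial.map_X, MvPolynomial.coeff_C_mul,
    MvPolynomial.X_pow_eq_monomial, MvPolynomial.coeff_monomial, if_pos rfl, mul_one] at h3
  exact (residue_eq_zero_iff a).mp h3

end Main

/-- **Weierstrass preparation in degree two.** -/
theorem exists_weier {A R : Type u} [CommRing A] [HenselianLocalRing A] [CommRing R]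
    [IsLocalRing R] [Algebra A R] {t : R} (h : IsHensFree A R (fun _ : Unit => t)) (g : R)
    (γ : A) (hγ : IsUnit γ) (hg : g - algebraMap A R γ * t ^ 2 ∈
      (maximalIdeal A).map (algebraMap A R) ⊔ maximalIdeal R ^ 3) :
    ∃ (b c : A) (v : R), b ∈ maximalIdeal A ∧ c ∈ maximalIdeal A ∧ IsUnit v ∧
      v * g = t ^ 2 + algebraMap A R b * t + algebraMap A R c := by
  have hloc := h.isLocalHom
  have hA : (maximalIdeal A).map (algebraMap A R) ≤ maximalIdeal R :=
    ((local_hom_TFAE (algebraMap A R)).out 0 2 rfl rfl).mp inferInstance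
  set I := (maximalIdeal A).map (algebraMap A R) with hI
  have ht : t ∈ maximalIdeal R := h.mem_maximalIdeal ()
  have hm : maximalIdeal R = I ⊔ Ideal.span {t} := by
    have := h.maximalIdeal_eq
    rwa [Set.range_unique] at this
  have hmdec : ∀ r ∈ maximalIdeal R, ∃ w, r - t * w ∈ I := by
    intro r hr
    rw [hm] at hr
    obtain ⟨i, hi, z, hz, hiz⟩ := Submodule.mem_sup.mp hr
    obtain ⟨w, hw⟩ := Ideal.mem_span_singleton'.mp hz
    refine ⟨w, ?_⟩
    rw [← hiz, ← hw]
    convert hi using 1
    ring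
  have hm3 : ∀ r ∈ maximalIdeal R ^ 3, ∃ w, r - t ^ 3 * w ∈ I := by
    intro r hr
    have h1 : maximalIdeal R ^ 3 ≤ I ⊔ Ideal.span {t ^ 3} := by
      have h2 : ∀ n : ℕ, maximalIdeal R ^ n ≤ I ⊔ Ideal.span {t ^ n} := by
        intro n
        induction n with
        | zero => simp
        | succ n ih =>
          rw [pow_succ, Ideal.mul_le]
          intro r hr s hs
          obtain ⟨i, hi, z, hz, hiz⟩ := Submodule.mem_sup.mp (ih hr)
          obtain ⟨w, hw⟩ := Ideal.mem_span_singleton'.mp hz
          obtain ⟨w', hw'⟩ := hmdec s hs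
          have h3 : r * s = (i * s + (w * t ^ n) * (s - t * w')) + (w * w') * t ^ (n + 1) := by
            rw [← hiz, ← hw]
            ring
          rw [h3]
          exact Submodule.add_mem_sup (I.add_mem (I.mul_mem_right _ hi) (I.mul_mem_left _ hw'))
            (Ideal.mul_mem_left _ _ (Ideal.mem_span_singleton_self _))
      exact h2 3
    obtain ⟨i, hi, z, hz, hiz⟩ := Submodule.mem_sup.mp (h1 hr)
    obtain ⟨w, hw⟩ := Ideal.mem_span_singleton'.mp hz
    refine ⟨w, ?_⟩
    rw [← hiz, ← hw]
    convert hi using 1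
    ring
  -- `g` is a unit times `t ^ 2` modulo `I`
  obtain ⟨u, hu, hgu⟩ : ∃ u : R, IsUnit u ∧ g - u * t ^ 2 ∈ I := by
    obtain ⟨i, hi, z, hz, hiz⟩ := Submodule.mem_sup.mp hg
    obtain ⟨w, hw⟩ := hm3 z hz
    refine ⟨algebraMap A R γ + t * w, ?_, ?_⟩
    · by_contra hu
      have h1 : algebraMap A R γ + t * w ∈ maximalIdeal R := hu
      have h2 := Ideal.sub_mem _ h1 (Ideal.mul_mem_right w _ ht)
      rw [add_sub_cancel_right] at h2
      exact h2 (hγ.map _)
    · have h1 : g - (algebraMap A R γ + t * w) * t ^ 2 = i + (z - t ^ 3 * w) := by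
        linear_combination -hiz
      rw [h1]
      exact I.add_mem hi hw
  obtain ⟨u', hu'⟩ := hu.exists_left_inv
  have hgm : g ∈ maximalIdeal R := by
    have h1 := Ideal.add_mem _ (hA hgu) (Ideal.mul_mem_left _ u (Ideal.pow_mem_of_mem _ ht 2
      two_pos))
    rwa [sub_add_cancel] at h1
  have hgI : g ∉ I := by
    intro h1
    have h2 : t ^ 2 ∈ I := by
      have h3 := I.mul_mem_left u' (I.sub_mem h1 hgu)
      rw [sub_sub_cancel, ← mul_assoc, hu', one_mul] at h3
      exact h3
    have h3 : algebraMap A R 1 * t ^ 2 ∈ I ⊔ maximalIdeal R ^ 3 := by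
      rw [map_one, one_mul]
      exact Ideal.mem_sup_left h2
    exact mem_of_sq h 1 h3 isUnit_one
  have hfin : Module.Finite A (R ⧸ Ideal.span {g}) := finite_quotient h g hgm hgI
  -- generators
  let mk : R →ₐ[A] R ⧸ Ideal.span {g} := Ideal.Quotient.mkₐ A _
  have hmks : Function.Surjective mk := Ideal.Quotient.mkₐ_surjective A _
  have hmkg : mk g = 0 := Ideal.Quotient.eq_zero_iff_mem.mpr (Ideal.mem_span_singleton_self g)
  have hmkI : ∀ r ∈ I, mk r ∈ (maximalIdeal A) • (⊤ : Submodule A (R ⧸ Ideal.span {g})) := by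
    intro r hr
    refine Submodule.span_induction (p := fun r _ => mk r ∈ (maximalIdeal A) •
      (⊤ : Submodule A (R ⧸ Ideal.span {g}))) ?_ ?_ ?_ ?_ hr
    · rintro _ ⟨a, ha, rfl⟩
      rw [show mk (algebraMap A R a) = a • (1 : R ⧸ Ideal.span {g}) by
        rw [mk.commutes, Algebra.algebraMap_eq_smul_one]]
      exact Submodule.smul_mem_smul ha trivial
    · rw [map_zero]
      exact Submodule.zero_mem _
    · intro r s _ _ hr hs
      rw [map_add]
      exact Submodule.add_mem _ hr hs
    · intro z r _ hr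
      rw [smul_eq_mul, map_mul]
      refine Submodule.smul_induction_on hr ?_ ?_
      · intro a ha m _
        rw [mul_smul_comm]
        exact Submodule.smul_mem_smul ha trivial
      · intro x y hx hy
        rw [mul_add]
        exact Submodule.add_mem _ hx hy
  let N : Submodule A (R ⧸ Ideal.span {g}) := Submodule.span A {1, mk t}
  have h1N : (1 : R ⧸ Ideal.span {g}) ∈ N := Submodule.subset_span (by simp)
  have htN : mk t ∈ N := Submodule.subset_span (by simp)
  have hsup : (⊤ : Submodule A (R ⧸ Ideal.span {g})) ≤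
      N ⊔ (maximalIdeal A) • (⊤ : Submodule A (R ⧸ Ideal.span {g})) := by
    intro m _
    obtain ⟨r, rfl⟩ := hmks m
    obtain ⟨a, ha⟩ := exists_const h r
    obtain ⟨r₁, hr₁⟩ := hmdec _ ha
    obtain ⟨a₁, ha₁⟩ := exists_const h r₁
    obtain ⟨r₂, hr₂⟩ := hmdec _ ha₁
    have h1 : r = (algebraMap A R a * 1 + algebraMap A R a₁ * t) + (u' * r₂) * g +
        ((r - algebraMap A R a - t * r₁) + t * (r₁ - algebraMap A R a₁ - t * r₂) -
          (u' * r₂) * (g - u * t ^ 2)) := by
      linear_combination (-t ^ 2 * r₂) * hu'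
    rw [h1, map_add, map_add, map_add, map_mul _ _ g, hmkg, mul_zero, add_zero, map_mul, map_mul,
      mk.commutes, mk.commutes, map_one, ← Algebra.smul_def, ← Algebra.smul_def]
    refine Submodule.add_mem_sup (N.add_mem (N.smul_mem _ h1N) (N.smul_mem _ htN)) (hmkI _ ?_)
    exact I.sub_mem (I.add_mem hr₁ (I.mul_mem_left _ hr₂)) (I.mul_mem_left _ hgu)
  have htop : N = ⊤ := by
    refine top_le_iff.mp (Submodule.le_of_le_smul_of_le_jacobson_bot hfin.fg_top ?_ hsup)
    exact IsLocalRing.maximalIdeal_le_jacobson _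
  have h2 : (mk t) ^ 2 ∈ N := by
    rw [htop]
    trivial
  obtain ⟨x, y, hxy⟩ := Submodule.mem_span_pair.1 h2
  have h3 : t ^ 2 + algebraMap A R (-y) * t + algebraMap A R (-x) ∈ Ideal.span {g} := by
    rw [← Ideal.Quotient.eq_zero_iff_mem]
    change mk _ = 0
    rw [map_add, map_add, map_mul, map_pow, mk.commutes, mk.commutes, ← hxy, Algebra.smul_def,
      Algebra.smul_def, map_neg, map_neg]
    ring
  obtain ⟨v, hv⟩ := Ideal.mem_span_singleton'.mp h3
  have hle : I ⊔ maximalIdeal R ^ 3 ≤ I ⊔ maximalIdeal R ^ 2 :=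
    sup_le_sup_left (Ideal.pow_le_pow_right (by norm_num)) _
  have ht2 : t ^ 2 ∈ I ⊔ maximalIdeal R ^ 2 := Ideal.mem_sup_right (Ideal.pow_mem_pow ht 2)
  have hg2 : g ∈ I ⊔ maximalIdeal R ^ 2 := by
    have h4 := Ideal.add_mem _ (hle hg) (Ideal.mul_mem_left _ (algebraMap A R γ) ht2)
    rwa [sub_add_cancel] at h4
  obtain ⟨hx, hy⟩ := mem_of_lin h (-x) (-y) (by
    have h4 := Ideal.sub_mem _ (Ideal.mul_mem_left _ v hg2) ht2
    rw [hv] at h4
    convert h4 using 1
    ring)
  refine ⟨-y, -x, v, hy, hx, ?_, hv⟩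
  obtain ⟨a, ha⟩ := exists_const h v
  have h4 : algebraMap A R (1 - a * γ) * t ^ 2 ∈ I ⊔ maximalIdeal R ^ 3 := by
    have h5 : algebraMap A R (1 - a * γ) * t ^ 2 = v * (g - algebraMap A R γ * t ^ 2) +
        (v - algebraMap A R a) * algebraMap A R γ * t ^ 2 -
          (algebraMap A R (-y) * t + algebraMap A R (-x)) := by
      rw [map_sub, map_mul, map_one]
      linear_combination -hv
    rw [h5]
    refine Ideal.sub_mem _ (Ideal.add_mem _ (Ideal.mul_mem_left _ _ hg)
      (Ideal.mem_sup_right ?_)) (Ideal.mem_sup_left ?_)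
    · have h6 : (v - algebraMap A R a) * algebraMap A R γ * t ^ 2 =
          algebraMap A R γ * ((v - algebraMap A R a) * t ^ 2) := by ring
      rw [h6, pow_succ' _ 2]
      exact Ideal.mul_mem_left _ _ (Ideal.mul_mem_mul ha (Ideal.pow_mem_pow ht 2))
    · exact I.add_mem (I.mul_mem_right _ (Ideal.mem_map_of_mem _ hy)) (Ideal.mem_map_of_mem _ hx)
  have h5 := mem_of_sq h _ h4
  have h6 : IsUnit a := by
    by_contra hna
    have h7 : a * γ ∈ maximalIdeal A := Ideal.mul_mem_right _ _ hna
    have h8 := Ideal.add_mem _ h5 h7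
    rw [sub_add_cancel] at h8
    exact h8 isUnit_one
  by_contra hnv
  have h7 : v ∈ maximalIdeal R := hnv
  have h8 := Ideal.sub_mem _ h7 ha
  rw [sub_sub_cancel] at h8
  exact h8 (h6.map _)

end K4.Weier
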